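import Groth.Agent.Desc.K390.PnSec
import Groth.Agent.Mor.K386.HQP
import Groth.Agent.FlatMor.K265.YDom
import Mathlib.AlgebraicGeometry.Morphisms.SchemeTheoreticallyDominant

/-!
# Auxiliary lemmas: generators, extension of functions from an open, closures over an open of the base

* `exists_iso_of_isGen`, `givenBy_unique_gen`: morphisms to projective space given by multiples of generators.
* `exists_extension`: functions on a quasi-compact open of an affine scheme extend after multiplication by powers.
* `exists_isPullback_of_dominant`: a closed immersion over an open of the base through which a dominant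
  morphism factors is the restriction of the scheme-theoretic image.
-/

set_option autoImplicit false
universe u
open CategoryTheory CategoryTheory.Limits AlgebraicGeometry TopologicalSpace Opposite

namespace K361.PnAux

open Groth.Agent.Fdesc.LocGen Groth.Agent.Dix.ProjProper Groth.Agent.Ega2.Nv K390.PnSec

variable {X Y : Scheme.{u}}

theorem exists_iso_of_isGen {M N : X.Modules} {e : Γ(M, ⊤)} {e' : Γ(N, ⊤)} (he : IsGen e) (he' : IsGen e') :
    ∃ φ : M ≅ N, φ.hom.app ⊤ e = e' := by
  have h1 : IsIso (homOf e) := by rw [isIso_iff_isGen, sec_homOf]; exact he.res _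
  have h2 : IsIso (homOf e') := by rw [isIso_iff_isGen, sec_homOf]; exact he'.res _
  refine ⟨(asIso (homOf e)).symm ≪≫ asIso (homOf e'), ?_⟩
  have h3 : homOf e ≫ ((asIso (homOf e)).symm ≪≫ asIso (homOf e')).hom = homOf e' := by simp
  have h4 := congrArg (fun s => sec s ⊤) h3
  simp only [sec_comp, sec_homOf, res_refl] at h4
  exact h4

/-- Morphisms to projective space given by the same multiples of generators agree. -/
theorem givenBy_unique_gen {n : ℕ} {r r' : X ⟶ CohB1.ProjSpace n Z.{u}} {M N : X.Modules}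
    {e : Γ(M, ⊤)} {e' : Γ(N, ⊤)} (he : IsGen e) (he' : IsGen e') (a : Fin (n + 1) → Γ(X, ⊤))
    (h : GivenBy r M (fun l => a l • e)) (h' : GivenBy r' N (fun l => a l • e')) : r = r' := by
  obtain ⟨φ, hφ⟩ := exists_iso_of_isGen he he'
  have h1 := h.of_iso φ
  have h2 : (fun i => φ.hom.app ⊤ (a i • e)) = fun l => a l • e' := by
    funext i
    rw [← hφ]
    exact Scheme.Modules.Hom.app_smul φ.hom _ _
  rw [h2] at h1
  exact h1.unique' h'

/-- Extension of functions from a quasi-compact open of an affine scheme. -/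
theorem exists_extension {Y' Yw : Scheme.{u}} [IsAffine Yw] (c : Y' ⟶ Yw) [IsOpenImmersion c] [CompactSpace Y']
    (α : Γ(Yw, ⊤)) (hα : Yw.basicOpen α ≤ c.opensRange) (h : Γ(Y', ⊤)) :
    ∃ N : ℕ, ∀ n, N ≤ n → ∃ b : Γ(Yw, ⊤), c.appTop b = (c.appTop α) ^ n * h := by
  have hO : IsCompact (c.opensRange : Set Yw) := by
    exact isCompact_range c.continuous
  have hle : (⊤ : Y'.Opens) ≤ c ⁻¹ᵁ c.opensRange := fun x _ => ⟨x, rfl⟩
  have hsurj : Function.Bijective (c.appLE c.opensRange ⊤ hle).hom := by
    have : IsIso (c.appLE c.opensRange ⊤ hle) := by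
      rw [Scheme.Hom.appLE]
      have h1 : IsIso (c.app c.opensRange) := by
        have := c.isIso_app c.opensRange le_rfl
        exact this
      have h2 : IsIso (Y'.presheaf.map (homOfLE hle).op) := by
        have : IsIso (homOfLE hle) := ⟨homOfLE le_top, rfl, rfl⟩
        infer_instance
      infer_instance
    exact (ConcreteCategory.isIso_iff_bijective _).mp this
  obtain ⟨h', hh'⟩ := hsurj.2 h
  -- `(appLE)` of a restriction
  have hres : ∀ b : Γ(Yw, ⊤), (c.appLE c.opensRange ⊤ hle).hom (ores le_top b) = c.appTop b := by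
    intro b
    have : Yw.presheaf.map (homOfLE (le_top : c.opensRange ≤ ⊤)).op ≫ c.appLE c.opensRange ⊤ hle = c.appTop := by
      rw [Scheme.Hom.map_appLE]
      rw [Scheme.Hom.appTop, Scheme.Hom.app_eq_appLE]; rfl
    exact congr(($this).hom b)
  let αO : Γ(Yw, c.opensRange) := ores le_top α
  have hb : Yw.basicOpen αO = Yw.basicOpen α := by
    have : Yw.basicOpen αO = c.opensRange ⊓ Yw.basicOpen α := Scheme.basicOpen_res _ _ _
    rw [this, inf_eq_right]; exact hα
  have hloc : IsLocalization.Away α Γ(Yw, Yw.basicOpen α) := (isAffineOpen_top Yw).isLocalization_basicOpen α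
  obtain ⟨⟨b₁, s, hs⟩, hb₁⟩ := IsLocalization.surj (Submonoid.powers α) (ores hα h')
  obtain ⟨k, rfl⟩ := (Submonoid.mem_powers_iff _ _).mp hs
  have hb₁' : ores hα h' * ores (le_top : Yw.basicOpen α ≤ ⊤) (α ^ k) = ores (le_top : Yw.basicOpen α ≤ ⊤) b₁ := hb₁
  obtain ⟨m, hm⟩ := exists_pow_mul_eq_zero_of_res_basicOpen_eq_zero_of_isCompact Yw hO
    (ores le_top b₁ - αO ^ k * h') αO (by
      have h1 : ores (Yw.basicOpen_le αO) (ores le_top b₁ - αO ^ k * h') = 0 := by
        have h2 : ores hb.ge (ores (Yw.basicOpen_le αO) (ores le_top b₁ - αO ^ k * h')) = 0 := by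
          rw [ores_ores]
          simp only [αO, map_sub, map_mul, map_pow, ores_ores]
          rw [← hb₁', map_pow]
          ring
        have h3 : Function.Injective (ores (X := Yw) hb.ge) := by
          intro x y hxy
          have := congrArg (ores hb.le) hxy
          simpa only [ores_ores, ores_refl] using this
        exact h3 (h2.trans (map_zero _).symm)
      exact h1)
  refine ⟨m + k, fun n hn => ⟨α ^ (n - k) * b₁, ?_⟩⟩
  have h4 : αO ^ (n - k) * ores le_top b₁ = αO ^ n * h' := by
    have h5 : αO ^ (n - k) = αO ^ (n - k - m) * αO ^ m := by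
      rw [← pow_add]; congr 1; omega
    have h6 : αO ^ m * ores le_top b₁ = αO ^ m * (αO ^ k * h') := by
      rw [mul_sub, sub_eq_zero] at hm
      exact hm
    rw [h5, mul_assoc, h6, ← mul_assoc, ← mul_assoc, ← h5, ← pow_add]
    congr 2
    omega
  rw [← hres, ← hres, ← hh', ← map_pow, ← map_mul]
  congr 1
  simp only [map_mul, map_pow]
  exact h4

/-- Kernels are unchanged by precomposition with a scheme-theoretically dominant morphism. -/
theorem ker_comp_eq {A B C : Scheme.{u}} (f : A ⟶ B) (g : B ⟶ C) [IsSchemeTheoreticallyDominant f] :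
    (f ≫ g).ker = g.ker := by
  rw [Scheme.Hom.ker_comp, f.ker_eq_bot, Scheme.IdealSheafData.map_bot]

/-- Two factorisations of a morphism through closed immersions, with dominant first part, agree. -/
theorem exists_iso_of_dominant {A B B' C : Scheme.{u}} (f : A ⟶ B) (g : B ⟶ C) (f' : A ⟶ B') (g' : B' ⟶ C)
    [IsSchemeTheoreticallyDominant f] [IsSchemeTheoreticallyDominant f'] [IsClosedImmersion g]
    [IsClosedImmersion g'] (h : f ≫ g = f' ≫ g') : ∃ e : B ⟶ B', IsIso e ∧ e ≫ g' = g ∧ f ≫ e = f' := by
  have hk : g'.ker = g.ker := by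
    rw [← ker_comp_eq f g, h, ker_comp_eq]
  refine ⟨IsClosedImmersion.lift g' g hk.le, IsClosedImmersion.isIso_lift g' g hk,
    IsClosedImmersion.lift_fac g' g hk.le, ?_⟩
  rw [← cancel_mono g', Category.assoc, IsClosedImmersion.lift_fac, h]

/-- A closed subscheme over an open of the base through which the morphism factors dominantly is the
restriction of the scheme-theoretic image. -/
theorem exists_isPullback_image {Yw P W V Y' X' P' : Scheme.{u}} (H : Yw ⟶ P) (p : P ⟶ W) (b : V ⟶ W)
    [QuasiCompact H] [IsOpenImmersion b] {β : P' ⟶ P} {p' : P' ⟶ V} (hP : IsPullback β p' p b)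
    {c : Y' ⟶ Yw} {f'' : Y' ⟶ V} (sq : IsPullback c f'' (H ≫ p) b) (κ : X' ⟶ P') [IsClosedImmersion κ]
    (f' : Y' ⟶ X') [IsSchemeTheoreticallyDominant f'] (h1 : f' ≫ κ ≫ β = c ≫ H)
    (h2 : f' ≫ κ ≫ p' = f'') :
    ∃ r : X' ⟶ H.image, IsPullback r (κ ≫ p') (H.imageι ≫ p) b ∧ f' ≫ r = c ≫ H.toImage ∧
      r ≫ H.imageι = κ ≫ β := by
  have hβ : IsOpenImmersion β := MorphismProperty.of_isPullback (P := @IsOpenImmersion) hP.flip ‹_›
  have sqQ : IsPullback (pullback.fst H.imageι β) (pullback.snd H.imageι β) H.imageι β :=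
    IsPullback.of_hasPullback _ _
  have sqQV : IsPullback (pullback.fst H.imageι β) (pullback.snd H.imageι β ≫ p') (H.imageι ≫ p) b :=
    sqQ.paste_vert hP
  let t : Y' ⟶ pullback H.imageι β := pullback.lift (c ≫ H.toImage) (f' ≫ κ) (by
    rw [Category.assoc, H.toImage_imageι, Category.assoc, h1])
  have ht1 : t ≫ pullback.fst H.imageι β = c ≫ H.toImage := pullback.lift_fst _ _ _
  have ht2 : t ≫ pullback.snd H.imageι β = f' ≫ κ := pullback.lift_snd _ _ _
  have sqt : IsPullback c t H.toImage (pullback.fst H.imageι β) := by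
    refine IsPullback.of_bot ?_ ht1.symm sqQV
    rw [reassoc_of% ht2, h2, H.toImage_imageι_assoc]
    exact sq
  have hq : QuasiCompact H.toImage := by
    have : QuasiCompact (H.toImage ≫ H.imageι) := by rw [H.toImage_imageι]; infer_instance
    exact QuasiCompact.of_comp H.toImage H.imageι
  have hd : IsSchemeTheoreticallyDominant H.toImage := K265.YTriv.isSchemeTheoreticallyDominant_toImage H
  have ht : IsSchemeTheoreticallyDominant t := IsSchemeTheoreticallyDominant.of_isPullback sqt
  obtain ⟨e, he, he1, he2⟩ := exists_iso_of_dominant f' κ t (pullback.snd H.imageι β) ht2.symm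
  refine ⟨e ≫ pullback.fst H.imageι β, ?_, ?_, ?_⟩
  · refine IsPullback.of_iso sqQV (asIso e).symm (Iso.refl _) (Iso.refl _) (Iso.refl _) ?_ ?_ ?_ ?_
    · simp
    · simp only [Iso.symm_hom, asIso_inv, Iso.refl_hom, Category.comp_id, IsIso.eq_inv_comp]
      rw [← he1, Category.assoc]
    · simp
    · simp
  · rw [reassoc_of% he2, ht1]
  · rw [Category.assoc, pullback.condition, reassoc_of% he1]

end K361.PnAux
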