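import Groth.Agent.FlatMor.K361.YGlue
import Groth.Agent.FlatMor.K265.YDom
import Groth.Agent.Mor.K386.VeryAmple
import Groth.Agent.Mor.K386.HQP
import Groth.Agent.EGA2.K43.VAImm

/-!
# Compactification of an affine scheme of finite type over an affine base

`exists_compactification`: an affine scheme `Y₀` of finite type over an affine scheme `X` is the nonvanishing locus
of a section of a relatively ample module on a projective `X`-scheme.
-/

set_option autoImplicit false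
universe u
open CategoryTheory CategoryTheory.Limits AlgebraicGeometry TopologicalSpace Opposite

namespace K361.Compactif

open Groth.Agent.Fdesc.LocGen Groth.Agent.Dix.ProjProper Groth.Agent.Ega2.Nv K390.PnSec
open Groth.Agent.Ega2.H295.PnUniq Groth.Agent.Ega2.H295.PnCoord Groth.Agent.VarietyB Groth.Agent.VarietyB.ProjGlue

attribute [local instance] MvPolynomial.gradedAlgebra

variable {X Y : Scheme.{u}} {n : ℕ} {R : Type u} [CommRing R]

theorem exists_coeff (r : X ⟶ CohB1.ProjSpace n R) (i : Fin (n + 1)) {V : X.Opens}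
    (hV : IsGen (res _ (le_top : V ≤ ⊤) (tsec r i))) :
    V ≤ r ⁻¹ᵁ Dp (Fin (n + 1)) R i := by
  choose g hg using fun k => hV.exists_eq (res _ (le_top : V ≤ ⊤) (tsec r k))
  exact (ratio_of_rel r i g hg).choose

theorem nv_tsec (r : X ⟶ CohB1.ProjSpace n R) (i : Fin (n + 1)) :
    nv _ (tsec r i) = r ⁻¹ᵁ Dp (Fin (n + 1)) R i := by
  apply le_antisymm
  · exact exists_coeff r i (isGen_nv _ _)
  · rw [le_nv_iff _ _ le_top]
    exact isGen_res_tsec r i le_rfl

theorem nv_givenBy {r : X ⟶ CohB1.ProjSpace n R} {M : X.Modules} {s : Fin (n + 1) → Γ(M, ⊤)}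
    (h : GivenBy r M s) (i : Fin (n + 1)) : nv M (s i) = r ⁻¹ᵁ Dp (Fin (n + 1)) R i := by
  obtain ⟨τ, hτ⟩ := h
  rw [← hτ i, K43.VAImm.nv_app τ.hom (tsec r i)]
  exact nv_tsec r i

theorem app_ratio {r : X ⟶ CohB1.ProjSpace n R} {M : X.Modules} {s : Fin (n + 1) → Γ(M, ⊤)}
    (h : GivenBy r M s) (i : Fin (n + 1)) (a : Fin (n + 1) → Γ(X, ⊤)) (ha : ∀ k, s k = a k • s i) :
    ∃ e : (⊤ : X.Opens) ≤ r ⁻¹ᵁ Dp (Fin (n + 1)) R i, ∀ k,
      r.appLE (Dp (Fin (n + 1)) R i) ⊤ e (ProjStd.ratio (Fin (n + 1)) R i k) = a k := by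
  obtain ⟨τ, hτ⟩ := h
  refine ratio_of_rel r i a fun k => ?_
  rw [res_refl, res_refl]
  have h1 : ∀ k, τ.inv.app ⊤ (s k) = tsec r k := by
    intro k
    rw [← hτ k]
    exact congr(($(τ.hom_inv_id)).app ⊤ (tsec r k))
  rw [← h1, ← h1, ha k]
  exact Scheme.Modules.Hom.app_smul τ.inv (a k) (s i)

theorem exists_gens {X Y₀ : Scheme.{u}} [IsAffine X] [IsAffine Y₀] (q : Y₀ ⟶ X) [LocallyOfFiniteType q] :
    ∃ (n : ℕ) (a : Fin (n + 1) → Γ(Y₀, ⊤)), a 0 = 1 ∧
      Subring.closure (Set.range a ∪ Set.range q.appTop.hom) = ⊤ := by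
  have h1 : q.appTop.hom.FiniteType := by
    rwa [← HasRingHomProperty.iff_of_isAffine (P := @LocallyOfFiniteType)]
  algebraize [q.appTop.hom]
  obtain ⟨S, hS⟩ := (inferInstance : Algebra.FiniteType Γ(X, ⊤) Γ(Y₀, ⊤)).out
  have h2 := Algebra.adjoin_eq_ring_closure (R := Γ(X, ⊤)) (S : Set Γ(Y₀, ⊤))
  rw [hS] at h2
  refine ⟨S.card, Fin.cons 1 (fun k => (S.equivFin.symm k : Γ(Y₀, ⊤))), rfl, ?_⟩
  rw [eq_top_iff]
  have h3 : (⊤ : Subring Γ(Y₀, ⊤)) = (⊤ : Subalgebra Γ(X, ⊤) Γ(Y₀, ⊤)).toSubring := rfl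
  rw [h3, h2]
  refine Subring.closure_mono ?_
  rintro x (hx | hx)
  · exact Or.inr hx
  · refine Or.inl ⟨(S.equivFin ⟨x, hx⟩).succ, ?_⟩
    simp

theorem surjective_of_comp {A B C : Scheme.{u}} {j : A ⟶ B} {i : B ⟶ C} {φ : A ⟶ C} (h : j ≫ i = φ) (D : C.Opens)
    (hs : Function.Surjective (φ.app D)) : Function.Surjective (j.app (i ⁻¹ᵁ D)) := by
  subst h
  rw [Scheme.Hom.comp_app] at hs
  intro x
  obtain ⟨y, hy⟩ := hs x
  exact ⟨i.app D y, hy⟩

/-- A dominating morphism from an affine scheme which is a closed immersion to an affine open is an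
open immersion. -/
theorem isOpenImmersion_of_surjective {Y₀ P : Scheme.{u}} [IsAffine Y₀] (j : Y₀ ⟶ P) [IsSchemeTheoreticallyDominant j]
    [QuasiCompact j] {D : P.Opens} (hD : IsAffineOpen D) (hjD : j ⁻¹ᵁ D = ⊤)
    (hs : Function.Surjective (j.app D)) : ∃ _ : IsOpenImmersion j, j.opensRange = D := by
  have hbij : Function.Bijective (j.app D) := ⟨j.app_injective _, hs⟩
  have h0 : IsIso (j.app D) := (ConcreteCategory.isIso_iff_bijective _).mpr hbij
  have h1 : IsAffine (j ⁻¹ᵁ D) := by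
    have : IsAffineOpen (j ⁻¹ᵁ D) := by rw [hjD]; exact isAffineOpen_top Y₀
    exact this
  have h2 : IsAffine D := hD
  have h3 : IsIso (j ∣_ D).appTop := by
    rw [morphismRestrict_appTop]
    have : IsIso (j.app (D.ι ''ᵁ ⊤)) := by
      rw [Scheme.Opens.ι_image_top]
      exact h0
    refine @IsIso.comp_isIso _ _ _ _ _ _ _ this ?_
    refine @Functor.map_isIso _ _ _ _ _ _ _ _ ?_
    infer_instance
  have h4 : IsIso (j ∣_ D) :=
    (HasAffineProperty.iff_of_isAffine (P := MorphismProperty.isomorphisms Scheme)).mpr ⟨h1, h3⟩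
  have h5 : IsIso (j ⁻¹ᵁ D).ι := by
    rw [hjD]
    exact inferInstanceAs (IsIso Y₀.topIso.hom)
  have h6 : j = inv (j ⁻¹ᵁ D).ι ≫ (j ∣_ D) ≫ D.ι := by
    rw [IsIso.eq_inv_comp, morphismRestrict_ι]
  have h7 : IsOpenImmersion j := by
    rw [h6]
    infer_instance
  refine ⟨h7, ?_⟩
  apply le_antisymm
  · rintro _ ⟨y, rfl⟩
    have : y ∈ j ⁻¹ᵁ D := by rw [hjD]; trivial
    exact this
  · intro x hx
    obtain ⟨y, hy⟩ := (Scheme.homeoOfIso (asIso (j ∣_ D))).surjective ⟨x, hx⟩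
    refine ⟨(j ⁻¹ᵁ D).ι y, ?_⟩
    have := congr($(morphismRestrict_ι j D) y)
    rw [Scheme.Hom.comp_apply, Scheme.Hom.comp_apply] at this
    rw [← this]
    exact congrArg D.ι hy

/-- An affine scheme of finite type over an affine base is the nonvanishing locus of a section of a
relatively ample module on a projective scheme. -/
theorem exists_compactification {X Y₀ : Scheme.{u}} [IsAffine X] [IsAffine Y₀] (q : Y₀ ⟶ X)
    [LocallyOfFiniteType q] : ∃ (P : Scheme.{u}) (j : Y₀ ⟶ P) (_ : IsOpenImmersion j) (p : P ⟶ X) (L : P.Modules)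
      (s : Γ(L, ⊤)), IsSchemeTheoreticallyDominant j ∧ IsProper p ∧ j ≫ p = q ∧
        RelAmple.IsRelAmple p L ∧ nv L s = j.opensRange := by
  obtain ⟨n, a, ha0, ha⟩ := exists_gens q
  let β : Fin (n + 1) → Γ(Coh.structureModule Y₀, ⊤) := fun k => a k • one ⊤
  have hβ0 : β 0 = one ⊤ := by
    change a 0 • one ⊤ = one ⊤
    rw [ha0, one_smul]
  obtain ⟨r, hr⟩ := exists_givenBy' (M := Coh.structureModule Y₀) β (by
    rw [eq_top_iff]
    refine le_trans ?_ (le_iSup _ 0)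
    rw [le_genLocus_iff, sec_homOf, hβ0, res_refl]
    exact isGen_one ⊤)
  obtain ⟨e, he⟩ := app_ratio hr 0 a (fun k => by rw [hβ0])
  let t := CohB1.ProjSpace.toSpec n (ULift.{u} ℤ)
  let z := specULiftZIsTerminal.from X
  let φ : Y₀ ⟶ pullback t z := liftP r q
  have hφ1 : φ ≫ pullback.fst t z = r := liftP_toZ r q
  have hφ2 : φ ≫ pullback.snd t z = q := liftP_toBase r q
  let D₀ := Dp (Fin (n + 1)) (ULift.{u} ℤ) 0
  have hD₀ : IsAffineOpen D₀ := Proj.isAffineOpen_basicOpen _ _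
        (MvPolynomial.isHomogeneous_X _ _ : MvPolynomial.X (0 : Fin (n + 1)) ∈
          MvPolynomial.homogeneousSubmodule (Fin (n + 1)) (ULift.{u} ℤ) 1) Nat.one_pos
  let D : (pullback t z).Opens := pullback.fst t z ⁻¹ᵁ D₀ ⊓ pullback.snd t z ⁻¹ᵁ ⊤
  have hD : IsAffineOpen D := K386.VeryAmple.isAffineOpen_fst_inf_snd t z hD₀ (isAffineOpen_top X)
  have hφD : φ ⁻¹ᵁ D = ⊤ := by
    rw [eq_top_iff]
    refine e.trans ?_
    rw [← hφ1]
    exact le_inf le_rfl le_top
  have e1 : (⊤ : Y₀.Opens) ≤ (φ ≫ pullback.fst t z) ⁻¹ᵁ D₀ := by rw [hφ1]; exact e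
  have hsurj : Function.Surjective (φ.app D) := by
    refine K386.VeryAmple.app_surjective_of_closure t z φ D₀ ⊤ (U := ⊤) hφD e1 le_top ?_
    rw [eq_top_iff, ← ha]
    refine Subring.closure_mono ?_
    rintro x (⟨k, rfl⟩ | ⟨c, rfl⟩)
    · refine Or.inl ⟨ProjStd.ratio (Fin (n + 1)) (ULift.{u} ℤ) 0 k, ?_⟩
      rw [← he k]
      exact congr(($(K386.VeryAmple.appLE_congr_hom hφ1 e1 e)).hom _)
    · refine Or.inr ⟨c, ?_⟩
      have h1 : q.appLE ⊤ ⊤ le_top = q.appTop := by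
        rw [Scheme.Hom.appTop, Scheme.Hom.app_eq_appLE]
        rfl
      rw [← h1]
      exact congr(($(K386.VeryAmple.appLE_congr_hom hφ2 (le_top : (⊤ : Y₀.Opens) ≤ _) le_top)).hom c)
  have hqc : QuasiCompact φ := by
    have : QuasiCompact (φ ≫ pullback.snd t z) := by rw [hφ2]; infer_instance
    have : IsProper (pullback.snd t z) := isProper_toBase n X
    exact QuasiCompact.of_comp φ (pullback.snd t z)
  let j := φ.toImage
  let i := φ.imageι
  have hi : IsClosedImmersion i := inferInstanceAs (IsClosedImmersion φ.imageι)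
  have hi' : IsImmersion i := inferInstance
  have hji : j ≫ i = φ := φ.toImage_imageι
  have hdom : IsSchemeTheoreticallyDominant j := K265.YTriv.isSchemeTheoreticallyDominant_toImage φ
  obtain ⟨hjo, hjr⟩ := isOpenImmersion_of_surjective j (hD.preimage i) hφD (surjective_of_comp hji D hsurj)
  have hlift : liftP (i ≫ pullback.fst t z) (i ≫ pullback.snd t z) = i := by
    refine hom_ext_over ?_ ?_
    · rw [liftP_toZ]
      rfl
    · rw [liftP_toBase]
      rfl
  have hpp : IsProper (pullback.snd t z) := isProper_toBase n X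
  have hva : RelAmple.IsRelVeryAmplePn (i ≫ pullback.snd t z)
      ((Scheme.Modules.pullback (i ≫ pullback.fst t z)).obj (O1 n Z.{u})) := by
    rw [isRelVeryAmplePn_iff]
    refine ⟨n, i ≫ pullback.fst t z, _, GivenBy.refl _, ?_⟩
    rw [hlift]
    exact hi'
  refine ⟨φ.image, j, hjo, i ≫ pullback.snd t z, (Scheme.Modules.pullback (i ≫ pullback.fst t z)).obj (O1 n Z.{u}),
    tsec (i ≫ pullback.fst t z) 0, hdom, inferInstance, ?_, ?_, ?_⟩
  · rw [← Category.assoc, hji, hφ2]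
  · exact K386.HQP.isRelAmple_of_isRelVeryAmplePn (isInvertible_pullback _ (isInvertible_O1 n Z.{u})) hva
  · refine (nv_tsec (i ≫ pullback.fst t z) 0).trans ?_
    rw [hjr]
    change i ⁻¹ᵁ (pullback.fst t z ⁻¹ᵁ D₀) = i ⁻¹ᵁ (pullback.fst t z ⁻¹ᵁ D₀ ⊓ ⊤)
    rw [inf_top_eq]

end K361.Compactif
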