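import Groth.Agent.FlatMor.K361.PnAux
import Groth.Agent.EGA2.K43.VADef

/-!
# Extension of projective modifications with a trivialised very ample module from an open of an affine scheme
-/

set_option autoImplicit false
universe u
open CategoryTheory CategoryTheory.Limits AlgebraicGeometry TopologicalSpace Opposite

namespace K361.ExtPn

open Groth.Agent.Fdesc.LocGen Groth.Agent.Dix.ProjProper Groth.Agent.Ega2.Nv K390.PnSec K361.PnAux
open Groth.Agent.Ega2.H295.PnCoord

/-- `(X₁, f₁, g₁)` is a `Y`-blow-up of `X`, with the ample module `L` and the trivialising section `s`. -/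
structure IsYB {Y X X₁ : Scheme.{u}} (f : Y ⟶ X) (f₁ : Y ⟶ X₁) (g₁ : X₁ ⟶ X) (L : X₁.Modules)
    (s : Γ(L, ⊤)) : Prop where
  dom : IsSchemeTheoreticallyDominant f₁
  proper : IsProper g₁
  fac : f₁ ≫ g₁ = f
  ample : RelAmple.IsRelAmple g₁ L
  gen : IsGen (pullTop f₁ s)

/-- A property of morphisms local at the target, checked on a family of open immersions covering the target. -/
theorem of_isPullback_family (P : MorphismProperty Scheme.{u}) [IsZariskiLocalAtTarget P] {ι : Type*}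
    {X : Scheme.{u}} {D : ι → Scheme.{u}} (a : ∀ i, D i ⟶ X) [∀ i, IsOpenImmersion (a i)]
    (hcov : ∀ x : X, ∃ i, x ∈ Set.range (a i)) {Y : Scheme.{u}} {π : Y ⟶ X} {Yi : ι → Scheme.{u}}
    {πi : ∀ i, Yi i ⟶ D i} {j : ∀ i, Yi i ⟶ Y} (h : ∀ i, IsPullback (j i) (πi i) π (a i))
    (hP : ∀ i, P (πi i)) : P π := by
  refine IsZariskiLocalAtTarget.of_iSup_eq_top (P := P) (fun i => (a i).opensRange) ?_ ?_
  · ext x
    simpa using hcov x
  · intro i
    refine (P.arrow_mk_iso_iff (morphismRestrictOpensRange _ _)).mpr ?_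
    rw [← P.cancel_left_of_respectsIso (h i).isoPullback.hom, (h i).isoPullback_hom_snd]
    exact hP i

/-- Base change of the morphism to `P^n_T` with components `r` and `q`. -/
theorem isPullback_liftP {n : ℕ} {X X' T T' : Scheme.{u}} (r : X ⟶ CohB1.ProjSpace n Z.{u}) {q : X ⟶ T}
    {g : T' ⟶ T} {a : X' ⟶ X} {q' : X' ⟶ T'} (H : IsPullback a q' q g) :
    IsPullback a (liftP (a ≫ r) q') (liftP r q) (mapBase n g) := by
  refine IsPullback.of_bot (h₃₁ := g) (v₂₁ := CohB1.ProjSpaceOver.toBase n T')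
    (v₂₂ := CohB1.ProjSpaceOver.toBase n T) ?_ ?_ (isPullback_mapBase n g)
  · rw [liftP_toBase, liftP_toBase]
    exact H
  · refine hom_ext_over ?_ ?_
    · rw [Category.assoc, liftP_toZ, Category.assoc, mapBase_toZ, liftP_toZ]
    · rw [Category.assoc, liftP_toBase, Category.assoc, mapBase_toBase, ← Category.assoc, liftP_toBase, H.w]

theorem exists_family {W V : Scheme.{u}} [IsAffine W] (b : V ⟶ W) [IsOpenImmersion b] [CompactSpace V] :
    ∃ (m : ℕ) (a : Fin m → Γ(W, ⊤)), (∀ i, W.basicOpen (a i) ≤ b.opensRange) ∧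
      ∀ v : V, ∃ i, b v ∈ W.basicOpen (a i) := by
  have hc : IsCompact (b.opensRange : Set W) := isCompact_range b.continuous
  obtain ⟨s, hs, hU⟩ := (isCompact_and_isOpen_iff_finite_and_eq_biUnion_basicOpen
    (U := (b.opensRange : Set W))).mp ⟨hc, b.opensRange.2⟩
  have := hs.to_subtype
  obtain ⟨m, ⟨e⟩⟩ := Finite.exists_equiv_fin s
  refine ⟨m, fun i => (e.symm i : Γ(W, ⊤)), fun i x hx => ?_, fun v => ?_⟩
  · have : x ∈ (b.opensRange : Set W) := by
      rw [hU]
      exact Set.mem_iUnion₂.mpr ⟨_, (e.symm i).2, hx⟩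
    exact this
  · have : b v ∈ (b.opensRange : Set W) := ⟨v, rfl⟩
    rw [hU] at this
    obtain ⟨i, hi, hv⟩ := Set.mem_iUnion₂.mp this
    exact ⟨e ⟨i, hi⟩, by simpa using hv⟩

theorem mem_basicOpen_pow {X : Scheme.{u}} {U : X.Opens} (a : Γ(X, U)) (n : ℕ) {x : X} (hx : x ∈ X.basicOpen a) :
    x ∈ X.basicOpen (a ^ n) := by
  have hxU : x ∈ U := X.basicOpen_le a hx
  rw [X.mem_basicOpen _ _ hxU] at hx ⊢
  rw [map_pow]
  exact hx.pow n

/-- The multiples `a_i^N β_j` of sections `β_j` defining an immersion over `T`, together with any further section,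
still define an immersion over `T`, when the `D(a_i)` cover `T`. -/
theorem isImmersion_of_multiples {X T : Scheme.{u}} (q : X ⟶ T) {M : X.Modules}
    {n m k : ℕ} {r₀ : X ⟶ CohB1.ProjSpace n Z.{u}} {β : Fin (n + 1) → Γ(M, ⊤)} (hβ : GivenBy r₀ M β)
    (him : IsImmersion (liftP r₀ q)) (a : Fin m → Γ(T, ⊤)) (hcov : ∀ t : T, ∃ i, t ∈ T.basicOpen (a i)) (N : ℕ)
    {r : X ⟶ CohB1.ProjSpace k Z.{u}} {t : Fin (k + 1) → Γ(M, ⊤)} (ht : GivenBy r M t)
    (ind : Fin m → Fin (n + 1) → Fin (k + 1))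
    (hind : ∀ i j, t (ind i j) = (q.appTop (a i)) ^ N • β j) : IsImmersion (liftP r q) := by
  have h1 : ∀ i : Fin m, IsPullback (q ⁻¹ᵁ T.basicOpen (a i)).ι (q ∣_ T.basicOpen (a i)) q (T.basicOpen (a i)).ι :=
    fun i => (isPullback_morphismRestrict q (T.basicOpen (a i))).flip
  have hcov' : ∀ x : CohB1.ProjSpaceOver k T, ∃ i, x ∈ Set.range (mapBase k (T.basicOpen (a i)).ι) := by
    intro x
    obtain ⟨i, hi⟩ := hcov (CohB1.ProjSpaceOver.toBase k T x)
    obtain ⟨y, hy, -⟩ := Scheme.exists_preimage_of_isPullback (isPullback_mapBase k (T.basicOpen (a i)).ι) x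
      (⟨_, hi⟩ : T.basicOpen (a i)) rfl
    exact ⟨i, y, hy⟩
  have hop : ∀ i, IsOpenImmersion (mapBase k (T.basicOpen (a i)).ι) := fun i =>
    MorphismProperty.of_isPullback (P := @IsOpenImmersion) (isPullback_mapBase k (T.basicOpen (a i)).ι).flip
      inferInstance
  refine of_isPullback_family @IsImmersion (fun i => mapBase k (T.basicOpen (a i)).ι) hcov'
    (fun i => isPullback_liftP r (h1 i)) fun i => ?_
  -- over `D(a_i)`
  have hu : IsUnit (ores le_top (a i) : Γ(T, T.basicOpen (a i))) :=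
    RingedSpace.isUnit_res_basicOpen T.toRingedSpace (a i)
  -- as a function on the scheme `D(a_i)`
  let αi : Γ((T.basicOpen (a i) : Scheme.{u}), ⊤) := (T.basicOpen (a i)).ι.appTop (a i)
  have hαi : IsUnit αi := by
    have h2 : ((T.basicOpen (a i)).ι.app (T.basicOpen (a i))).hom (ores le_top (a i)) =
        ores le_top αi := by
      exact congr(($((T.basicOpen (a i)).ι.naturality (homOfLE le_top).op)).hom (a i))
    have h3 : IsUnit (ores (X := (T.basicOpen (a i) : Scheme.{u})) (le_top : (T.basicOpen (a i)).ι ⁻¹ᵁ T.basicOpen (a i) ≤ ⊤) αi) := by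
      rw [← h2]; exact hu.map _
    have h4 : (⊤ : (T.basicOpen (a i) : Scheme.{u}).Opens) ≤ (T.basicOpen (a i)).ι ⁻¹ᵁ T.basicOpen (a i) := fun x _ => x.2
    have h5 := h3.map (ores h4)
    rwa [ores_ores, ores_refl] at h5
  obtain ⟨v, hv⟩ := hαi.exists_right_inv
  refine isImmersion_liftP_of_span (q ∣_ T.basicOpen (a i)) (ht.comp (q ⁻¹ᵁ T.basicOpen (a i)).ι)
    (hβ.comp (q ⁻¹ᵁ T.basicOpen (a i)).ι)
    (fun j l => if l = ind i j then v ^ N else 0) (fun j => ?_)
    (MorphismProperty.of_isPullback (P := @IsImmersion) (isPullback_liftP r₀ (h1 i)) him)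
  rw [Finset.sum_eq_single (ind i j)]
  · rw [if_pos rfl, hind]
    have h6 : pullTop (q ⁻¹ᵁ T.basicOpen (a i)).ι ((q.appTop (a i)) ^ N • β j) =
      ((q ⁻¹ᵁ T.basicOpen (a i)).ι.appTop ((q.appTop (a i)) ^ N)) • pullTop (q ⁻¹ᵁ T.basicOpen (a i)).ι (β j) :=
      pullSec_smul _ _ _
    have h7 : (q ⁻¹ᵁ T.basicOpen (a i)).ι.appTop (q.appTop (a i)) = (q ∣_ T.basicOpen (a i)).appTop αi := by
      have := congrArg (fun g => g.appTop.hom (a i)) (h1 i).w
      simp only [Scheme.Hom.comp_appTop] at this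
      exact this
    rw [h6, ← mul_smul, map_pow, map_pow, h7, ← mul_pow, ← map_mul, mul_comm v, hv, map_one, one_pow, one_smul]
  · intro l _ hl
    rw [if_neg hl, map_zero, zero_smul]
  · intro h; exact absurd (Finset.mem_univ _) h

section main

variable {W V Yw Y' X' : Scheme.{u}} (fw : Yw ⟶ W) [IsAffine W] [IsAffineHom fw] (b : V ⟶ W)
  [IsOpenImmersion b] [CompactSpace V] {c : Y' ⟶ Yw} {f'' : Y' ⟶ V} (sq : IsPullback c f'' fw b)
  (f' : Y' ⟶ X') (g' : X' ⟶ V) [IsProper g'] [IsSchemeTheoreticallyDominant f'] (hf : f' ≫ g' = f'')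
  (M : X'.Modules) (hva : RelAmple.IsRelVeryAmplePn g' M) (t₀ : Γ(M, ⊤)) (ht₀ : IsGen (pullTop f' t₀))

include sq hf ht₀ hva

omit [IsProper g'] [IsSchemeTheoreticallyDominant f'] in
/-- The sections and functions used for the extension. -/
theorem exists_sections : ∃ (k : ℕ) (t : Fin (k + 1) → Γ(M, ⊤)) (β : Fin (k + 1) → Γ(Yw, ⊤)) (l₀ : Fin (k + 1))
    (r : X' ⟶ CohB1.ProjSpace k Z.{u}), GivenBy r M t ∧ IsImmersion (liftP r g') ∧ t l₀ = t₀ ∧ β l₀ = 1 ∧
      ∀ l, pullTop f' (t l) = c.appTop (β l) • pullTop f' t₀ := by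
  obtain ⟨n, r₀, s, hs, him⟩ := (isRelVeryAmplePn_iff g' M).mp hva
  obtain ⟨m, a, ha, hcov⟩ := exists_family b
  have hYw : IsAffine Yw := isAffine_of_isAffineHom fw
  have hc : IsOpenImmersion c := MorphismProperty.of_isPullback (P := @IsOpenImmersion) sq.flip ‹_›
  have hf'' : IsAffineHom f'' := MorphismProperty.of_isPullback (P := @IsAffineHom) sq ‹_›
  have hY' : CompactSpace Y' := QuasiCompact.compactSpace_of_compactSpace f''
  choose h hh using fun j => ht₀.exists_eq (pullTop f' (s j))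
  have hran : ∀ i, Yw.basicOpen (fw.appTop (a i)) ≤ c.opensRange := by
    intro i y hy
    have h1 : Yw.basicOpen (fw.appTop (a i)) = fw ⁻¹ᵁ (W.basicOpen (a i)) := (Scheme.preimage_basicOpen_top fw (a i)).symm
    rw [h1] at hy
    obtain ⟨v, hv⟩ := ha i hy
    obtain ⟨y', hy', -⟩ := Scheme.exists_preimage_of_isPullback sq y v hv.symm
    exact ⟨y', hy'⟩
  choose N hN using fun (p : Fin m × Fin (n + 1)) => exists_extension c (fw.appTop (a p.1)) (hran p.1) (h p.2)
  let N₀ : ℕ := Finset.univ.sup N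
  choose β hβ using fun (p : Fin m × Fin (n + 1)) => hN p N₀ (Finset.le_sup (Finset.mem_univ p))
  have hcard : Fintype.card (Option (Fin m × Fin (n + 1))) = m * (n + 1) + 1 := by simp
  let e : Option (Fin m × Fin (n + 1)) ≃ Fin (m * (n + 1) + 1) := Fintype.equivFinOfCardEq hcard
  let tt : Option (Fin m × Fin (n + 1)) → Γ(M, ⊤) := fun o =>
    o.elim t₀ fun p => (g'.appTop (b.appTop (a p.1))) ^ N₀ • s p.2
  let bb : Option (Fin m × Fin (n + 1)) → Γ(Yw, ⊤) := fun o => o.elim 1 β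
  have hcv : ⨆ l, CohB1.genLocus M (homOf (tt (e.symm l))) = ⊤ := by
    rw [eq_top_iff]
    intro x _
    have hx : x ∈ ⨆ j, CohB1.genLocus M (homOf (s j)) := by rw [hs.iSup_genLocus]; trivial
    obtain ⟨j, hj⟩ := Opens.mem_iSup.mp hx
    obtain ⟨i, hi⟩ := hcov (g' x)
    refine Opens.mem_iSup.mpr ⟨e (some (i, j)), ?_⟩
    rw [Equiv.symm_apply_apply, K265.YTriv.genLocus_eq_nv, sec_homOf, res_refl]
    rw [K265.YTriv.genLocus_eq_nv, sec_homOf, res_refl] at hj
    change x ∈ nv M ((g'.appTop (b.appTop (a i))) ^ N₀ • s j)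
    rw [K43.VADef.nv_smul']
    refine ⟨mem_basicOpen_pow _ _ ?_, hj⟩
    have h1 : X'.basicOpen (g'.appTop (b.appTop (a i))) = g' ⁻¹ᵁ (b ⁻¹ᵁ (W.basicOpen (a i))) := by
      rw [Scheme.preimage_basicOpen_top, Scheme.preimage_basicOpen_top]
    rw [h1]
    exact hi
  obtain ⟨r, hr⟩ := exists_givenBy' (fun l => tt (e.symm l)) hcv
  refine ⟨m * (n + 1), fun l => tt (e.symm l), fun l => bb (e.symm l), e none, r, hr, ?_, ?_, ?_, ?_⟩
  · refine isImmersion_of_multiples g' hs him (fun i => b.appTop (a i)) (fun v => ?_) N₀ hr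
      (fun i j => e (some (i, j))) (fun i j => ?_)
    · obtain ⟨i, hi⟩ := hcov v
      refine ⟨i, ?_⟩
      rw [← Scheme.preimage_basicOpen_top]
      exact hi
    · dsimp only
      rw [Equiv.symm_apply_apply]
      rfl
  · dsimp only
    rw [Equiv.symm_apply_apply]
    rfl
  · dsimp only
    rw [Equiv.symm_apply_apply]
    rfl
  · intro l
    obtain ⟨o, rfl⟩ := e.surjective l
    dsimp only
    rw [Equiv.symm_apply_apply]
    obtain _ | ⟨i, j⟩ := o
    · change pullTop f' t₀ = c.appTop 1 • pullTop f' t₀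
      rw [map_one, one_smul]
    · change pullTop f' ((g'.appTop (b.appTop (a i))) ^ N₀ • s j) = c.appTop (β (i, j)) • pullTop f' t₀
      rw [hβ (i, j)]
      have h6 : pullTop f' ((g'.appTop (b.appTop (a i))) ^ N₀ • s j) =
        (f'.appTop ((g'.appTop (b.appTop (a i))) ^ N₀)) • pullTop f' (s j) := pullSec_smul _ _ _
      have h7 : f'.appTop (g'.appTop (b.appTop (a i))) = c.appTop (fw.appTop (a i)) := by
        have h8 : f' ≫ g' ≫ b = c ≫ fw := by rw [sq.w, ← hf, Category.assoc]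
        have := congrArg (fun g => g.appTop.hom (a i)) h8
        simp only [Scheme.Hom.comp_appTop] at this
        exact this
      rw [h6, hh, map_pow, h7, mul_smul]

/-- **Extension over an affine base.** -/
theorem exists_ext_affine : ∃ (X₁ : Scheme.{u}) (f₁ : Yw ⟶ X₁) (g₁ : X₁ ⟶ W) (r : X' ⟶ X₁) (L : X₁.Modules)
    (s : Γ(L, ⊤)), IsYB fw f₁ g₁ L s ∧ IsPullback r g' g₁ b ∧ f' ≫ r = c ≫ f₁ ∧
      ∃ e : (Scheme.Modules.pullback r).obj L ≅ M, e.hom.app ⊤ (pullTop r s) = t₀ := by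
  obtain ⟨k, t, β, l₀, r, hr, him, htl, hβl, hpull⟩ := exists_sections fw b sq f' g' hf M hva t₀ ht₀
  -- the closed immersion over `V`
  let κ : X' ⟶ CohB1.ProjSpaceOver k V := liftP r g'
  have hκb : κ ≫ CohB1.ProjSpaceOver.toBase k V = g' := liftP_toBase r g'
  have hκz : κ ≫ toZ k V = r := liftP_toZ r g'
  have hκ : IsClosedImmersion κ := by
    have h1 : IsProper (κ ≫ CohB1.ProjSpaceOver.toBase k V) := by rw [hκb]; infer_instance
    have h2 : IsProper κ := IsProper.of_comp κ (CohB1.ProjSpaceOver.toBase k V)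
    exact IsClosedImmersion.of_isPreimmersion κ κ.isClosedMap.isClosed_range
  -- the morphism from `Yw`
  have hcv : ⨆ l, CohB1.genLocus (Coh.structureModule Yw) (homOf (β l • one ⊤)) = ⊤ := by
    rw [eq_top_iff]
    refine le_trans ?_ (le_iSup _ l₀)
    rw [le_genLocus_iff, sec_homOf, hβl, one_smul]
    exact (isGen_one _).res _
  obtain ⟨h, hh⟩ := exists_givenBy' (M := Coh.structureModule Yw) (fun l => β l • one ⊤) hcv
  let H : Yw ⟶ CohB1.ProjSpaceOver k W := liftP h fw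
  have hHb : H ≫ CohB1.ProjSpaceOver.toBase k W = fw := liftP_toBase h fw
  have hHz : H ≫ toZ k W = h := liftP_toZ h fw
  have hHq : QuasiCompact H := by
    have : QuasiCompact (H ≫ CohB1.ProjSpaceOver.toBase k W) := by rw [hHb]; infer_instance
    exact QuasiCompact.of_comp H (CohB1.ProjSpaceOver.toBase k W)
  -- compatibility
  have hcomp : f' ≫ κ ≫ mapBase k b = c ≫ H := by
    refine hom_ext_over ?_ ?_
    · have e1 : (f' ≫ κ ≫ mapBase k b) ≫ toZ k W = f' ≫ r := by
        rw [Category.assoc, Category.assoc, mapBase_toZ, hκz]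
      have e2 : (c ≫ H) ≫ toZ k W = c ≫ h := by rw [Category.assoc, hHz]
      rw [e1, e2]
      refine givenBy_unique_gen ht₀ ((isGen_one (X := Yw) ⊤).pullTop c) (fun l => c.appTop (β l)) ?_ ?_
      · have h1 := hr.comp f'
        have h2 : (fun i => pullTop f' (t i)) = fun l => c.appTop (β l) • pullTop f' t₀ := funext hpull
        rwa [h2] at h1
      · have h1 := hh.comp c
        have h2 : (fun i => pullTop c (β i • one (X := Yw) ⊤)) = fun l => c.appTop (β l) • pullTop c (one ⊤) :=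
          funext fun l => pullSec_smul c _ _
        rwa [h2] at h1
    · rw [Category.assoc, Category.assoc, mapBase_toBase, ← Category.assoc κ, hκb, Category.assoc, hHb,
        ← Category.assoc, hf, sq.w]
  obtain ⟨ρ, hρ, hρ1, hρ2⟩ := exists_isPullback_image H (CohB1.ProjSpaceOver.toBase k W) b
    (isPullback_mapBase k b) (by rw [hHb]; exact sq) κ f' hcomp (by rw [hκb, hf])
  rw [hκb] at hρ
  have hgz : GivenBy (H.imageι ≫ toZ k W) ((Scheme.Modules.pullback (H.imageι ≫ toZ k W)).obj (O1 k Z.{u}))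
      (fun i => tsec (H.imageι ≫ toZ k W) i) := GivenBy.refl _
  have hlift : liftP (H.imageι ≫ toZ k W) (H.imageι ≫ CohB1.ProjSpaceOver.toBase k W) = H.imageι :=
    hom_ext_over (liftP_toZ _ _) (liftP_toBase _ _)
  refine ⟨H.image, H.toImage, H.imageι ≫ CohB1.ProjSpaceOver.toBase k W, ρ,
    (Scheme.Modules.pullback (H.imageι ≫ toZ k W)).obj (O1 k Z.{u}), tsec (H.imageι ≫ toZ k W) l₀,
    ⟨K265.YTriv.isSchemeTheoreticallyDominant_toImage H, inferInstance, ?_, ?_, ?_⟩, hρ, hρ1, ?_⟩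
  · rw [H.toImage_imageι_assoc, hHb]
  · refine K386.HQP.isRelAmple_of_isRelVeryAmplePn (isInvertible_pullback _ (isInvertible_O1 k Z.{u})) ?_
    rw [isRelVeryAmplePn_iff]
    refine ⟨k, H.imageι ≫ toZ k W, _, hgz, ?_⟩
    rw [hlift]
    infer_instance
  · have h1 := hgz.comp H.toImage
    rw [H.toImage_imageι_assoc, hHz] at h1
    obtain ⟨e, he⟩ := h1.exists_iso hh
    have h2 := he l₀
    rw [hβl, one_smul] at h2
    have h3 : IsGen (e.hom.app ⊤ (pullTop H.toImage (tsec (H.imageι ≫ toZ k W) l₀))) := by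
      rw [h2]; exact isGen_one _
    exact (isGen_app_iff e.hom _).mp h3
  · have h1 := hgz.comp ρ
    have h4 : ρ ≫ H.imageι ≫ toZ k W = r := by
      rw [← Category.assoc, hρ2, Category.assoc, mapBase_toZ, hκz]
    rw [h4] at h1
    obtain ⟨e, he⟩ := h1.exists_iso hr
    exact ⟨e, (he l₀).trans htl⟩

end main

end K361.ExtPn
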