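import Groth.Agent.ModPair.K971.LimHom
import Groth.Agent.PicLoc.K729.FGCone
import Groth.Agent.GIT.K691.Dense
import Mathlib.CategoryTheory.Limits.Constructions.Over.Connected
import Mathlib.CategoryTheory.Filtered.Connected

/-!
# Morphisms from an affine scheme factor through a scheme of finite type

`exists_factor`: let `g' : X' ⟶ X` be quasi-separated of finite type with `X` affine, `Y` affine. A morphism
`Y ⟶ X'` factors through an affine scheme of finite type over `X`, under a dominating morphism.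
-/

set_option autoImplicit false
universe u
open CategoryTheory CategoryTheory.Limits AlgebraicGeometry TopologicalSpace Opposite
open Groth.Agent.Etcore.FGLim

namespace K361.FinFac

theorem exists_fg_factor {A B : Type u} [CommRing A] [CommRing B] [Algebra A B] {X' : Scheme.{u}}
    (g' : X' ⟶ Spec (CommRingCat.of A)) [LocallyOfFiniteType g'] [QuasiCompact g'] [QuasiSeparated g']
    (f' : Spec (CommRingCat.of B) ⟶ X') (h : f' ≫ g' = Spec.map (CommRingCat.ofHom (algebraMap A B))) :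
    ∃ (B₀ : Subalgebra A B) (_ : B₀.FG) (f₀ : Spec (CommRingCat.of B₀) ⟶ X'),
      f₀ ≫ g' = Spec.map (CommRingCat.ofHom (algebraMap A B₀)) ∧
      Spec.map (CommRingCat.ofHom B₀.val.toRingHom) ≫ f₀ = f' := by
  let c := K729.FGCone.fgC A B
  have i0 : IsConnected (FGSub A B)ᵒᵖ := IsCofiltered.isConnected _
  have i0' : CreatesLimitsOfShape (FGSub A B)ᵒᵖ (Over.forget (PicLoc.base A)) :=
    inferInstanceAs (CreatesLimitsOfShape (FGSub A B)ᵒᵖ (CostructuredArrow.proj (𝟭 _) (PicLoc.base A)))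
  have hc : IsLimit c := isLimitOfReflects (Over.forget _) (K729.FGCone.isLimitFgC A B)
  have i1 : ∀ (i j : (FGSub A B)ᵒᵖ) (t : i ⟶ j), IsAffineHom ((K729.FGCone.fgD A B).map t).left :=
    fun i j t => inferInstanceAs (IsAffineHom (Spec.map _))
  have i2 : ∀ (i j : (FGSub A B)ᵒᵖ) (t : i ⟶ j), IsSchemeTheoreticallyDominant ((K729.FGCone.fgD A B).map t).left :=
    fun i j t => K691.Dense.dominant_of_injective (Subalgebra.inclusion t.unop.le).toRingHom
      (Subalgebra.inclusion_injective t.unop.le)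
  have i3 : ∀ i : (FGSub A B)ᵒᵖ, CompactSpace ((K729.FGCone.fgD A B).obj i).left :=
    fun i => inferInstanceAs (CompactSpace (Spec _))
  have i4 : ∀ i : (FGSub A B)ᵒᵖ, QuasiSeparatedSpace ((K729.FGCone.fgD A B).obj i).left :=
    fun i => inferInstanceAs (QuasiSeparatedSpace (Spec _))
  have i5 : CompactSpace X' := QuasiCompact.compactSpace_of_compactSpace g'
  have i6 : QuasiSeparatedSpace X' := quasiSeparatedSpace_of_quasiSeparated g'
  have i7 : CompactSpace (Over.mk g').left := i5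
  have i8 : QuasiSeparatedSpace (Over.mk g').left := i6
  have i9 : LocallyOfFiniteType (Over.mk g').hom := inferInstanceAs (LocallyOfFiniteType g')
  obtain ⟨i, φ, hφ⟩ := K971.LimHom.exists_fac_of_dominant hc (Over.mk g') (Over.homMk f' h)
  exact ⟨i.unop.1, i.unop.2, φ.left, Over.w φ, congrArg (fun x => x.left) hφ⟩

theorem exists_factor {X Y X' : Scheme.{u}} [IsAffine X] [IsAffine Y] (f' : Y ⟶ X') (g' : X' ⟶ X)
    [LocallyOfFiniteType g'] [QuasiCompact g'] [QuasiSeparated g'] :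
    ∃ (Y₀ : Scheme.{u}) (a : Y ⟶ Y₀) (f₀ : Y₀ ⟶ X'), IsAffine Y₀ ∧ LocallyOfFiniteType (f₀ ≫ g') ∧
      IsSchemeTheoreticallyDominant a ∧ a ≫ f₀ = f' := by
  let φ : Γ(X, ⊤) →+* Γ(Y, ⊤) := ((f' ≫ g').appTop).hom
  let _ : Algebra Γ(X, ⊤) Γ(Y, ⊤) := φ.toAlgebra
  obtain ⟨B₀, hB₀, f₀, h1, h2⟩ := exists_fg_factor (A := Γ(X, ⊤)) (B := Γ(Y, ⊤)) (g' ≫ X.isoSpec.hom)
    (Y.isoSpec.inv ≫ f') (by
      rw [Category.assoc, ← Category.assoc f', Iso.inv_comp_eq]
      exact (Scheme.isoSpec_hom_naturality (f' ≫ g')).symm)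
  refine ⟨Spec (CommRingCat.of B₀), Y.isoSpec.hom ≫ Spec.map (CommRingCat.ofHom B₀.val.toRingHom), f₀,
    inferInstance, ?_, ?_, ?_⟩
  · have h3 : LocallyOfFiniteType (f₀ ≫ g' ≫ X.isoSpec.hom) := by
      rw [h1]
      rw [HasRingHomProperty.Spec_iff (P := @LocallyOfFiniteType)]
      have := (Subalgebra.fg_iff_finiteType _).mp hB₀
      exact RingHom.finiteType_algebraMap.mpr this
    have h4 : f₀ ≫ g' = (f₀ ≫ g' ≫ X.isoSpec.hom) ≫ X.isoSpec.inv := by simp
    rw [h4]
    infer_instance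
  · have : IsSchemeTheoreticallyDominant (Spec.map (CommRingCat.ofHom B₀.val.toRingHom)) :=
      K691.Dense.dominant_of_injective _ Subtype.val_injective
    infer_instance
  · rw [Category.assoc, h2, Iso.hom_inv_id_assoc]

end K361.FinFac
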