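import Groth.Agent.FlatMor.K361.BlowSec
import Groth.Agent.FlatMor.K361.FinFac
import Groth.Agent.FlatMor.K361.Compactif
import Groth.Agent.FlatMor.K361.ExtPn
import Groth.Agent.Pic13.H17.ChowBlow

/-!
# Domination of modifications by blow-ups, over an affine base

`exists_dominating_affine`: over an affine scheme `X`, for `Y` affine, every `Y`-modification of `X` is dominated by
a `Y`-blow-up.
-/

set_option autoImplicit false
universe u
open CategoryTheory CategoryTheory.Limits AlgebraicGeometry TopologicalSpace Opposite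

namespace K361.AffBase

open Groth.Agent.Fdesc.LocGen Groth.Agent.Ega2.Nv K361.ExtPn K361.YGlue

section Iso

variable {Y₀ Z P : Scheme.{u}} (z : Y₀ ⟶ Z) (p : Z ⟶ P) (j : Y₀ ⟶ P) [IsOpenImmersion j] (h : z ≫ p = j)

include h in
/-- A separated morphism with a dominating section over an open is an isomorphism over this open. -/
theorem isIso_snd [IsSeparated p] [IsSchemeTheoreticallyDominant z] [QuasiCompact z] :
    IsIso (pullback.snd p j) := by
  let z' : Y₀ ⟶ pullback p j := pullback.lift z (𝟙 _) (by rw [h, Category.id_comp])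
  have h1 : z' ≫ pullback.fst p j = z := pullback.lift_fst _ _ _
  have h2 : z' ≫ pullback.snd p j = 𝟙 _ := pullback.lift_snd _ _ _
  have H : IsPullback (𝟙 Y₀) z' z (pullback.fst p j) := by
    refine ⟨⟨by rw [h1, Category.id_comp]⟩, ⟨PullbackCone.IsLimit.mk _ (fun s => s.fst) ?_ ?_ ?_⟩⟩
    · intro s
      exact Category.comp_id _
    · intro s
      rw [← cancel_mono (pullback.fst p j), Category.assoc, h1]
      exact s.condition
    · intro s m hm _
      rw [← hm, Category.comp_id]
  have h3 : IsSchemeTheoreticallyDominant z' := IsSchemeTheoreticallyDominant.of_isPullback H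
  have h4 : IsClosedImmersion (z' ≫ pullback.snd p j) := by rw [h2]; infer_instance
  have h5 : IsClosedImmersion z' := IsClosedImmersion.of_comp z' (pullback.snd p j)
  have h6 : IsIso z' := IsClosedImmersion.isIso_iff_ker_eq_bot.mpr h3.ker_eq_bot
  have h7 : IsIso (z' ≫ pullback.snd p j) := by rw [h2]; infer_instance
  exact IsIso.of_isIso_comp_left z' _

omit [IsOpenImmersion j] in
theorem eq_of_comp_eq [IsIso (pullback.snd p j)] {T : Scheme.{u}} (a b : T ⟶ Z) (t : T ⟶ Y₀)
    (ha : a ≫ p = t ≫ j) (hb : b ≫ p = t ≫ j) : a = b := by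
  have h1 : pullback.lift a t ha = pullback.lift b t hb := by
    rw [← cancel_mono (pullback.snd p j), pullback.lift_snd, pullback.lift_snd]
  rw [← pullback.lift_fst a t ha, ← pullback.lift_fst b t hb, h1]

end Iso

/-- Lifting to a blow-up a morphism avoiding the centre. -/
theorem exists_lift_blowUp {B P T : Scheme.{u}} {b : B ⟶ P} {I : P.IdealSheafData} (hb : BlowUp.IsBlowUp b I)
    (t : T ⟶ P) (ht : ∀ y, t y ∉ I.support) : ∃ h : T ⟶ B, h ≫ b = t := by
  have h1 : I.comap t = ⊤ := by
    rw [← Scheme.IdealSheafData.support_eq_bot_iff]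
    ext y
    rw [Scheme.IdealSheafData.support_comap]
    exact ⟨fun hy => (ht y hy).elim, fun hy => hy.elim⟩
  refine (hb.2 T t fun y => ?_).exists
  rw [h1]
  obtain ⟨U, hU, hyU, -⟩ := exists_isAffineOpen_mem_and_subset (U := (⊤ : T.Opens)) (x := y) trivial
  refine ⟨⟨U, hU⟩, hyU, 1, one_mem _, ?_⟩
  rw [Ideal.span_singleton_one]
  rfl

/-- Over an affine base, every modification under an affine scheme is dominated by a blow-up. -/
theorem exists_dominating_affine {X Y : Scheme.{u}} [IsAffine X] [IsAffine Y] {X' : Scheme.{u}} (f' : Y ⟶ X')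
    (g' : X' ⟶ X) [IsProper g'] : ∃ (X₁ : Scheme.{u}) (f₁ : Y ⟶ X₁) (g₁ : X₁ ⟶ X) (d : X₁ ⟶ X') (L : X₁.Modules)
      (s : Γ(L, ⊤)), IsYB (f' ≫ g') f₁ g₁ L s ∧ f₁ ≫ d = f' ∧ d ≫ g' = g₁ := by
  obtain ⟨Y₀, a, f₀, hY₀, hq, hadom, haf⟩ := K361.FinFac.exists_factor f' g'
  obtain ⟨P, j, hjo, p, L, s, hjdom, hp, hjp, hample, hnv⟩ := K361.Compactif.exists_compactification (f₀ ≫ g')
  have hPc : CompactSpace P := QuasiCompact.compactSpace_of_compactSpace p
  have hPqs : QuasiSeparatedSpace P := quasiSeparatedSpace_of_quasiSeparated p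
  have hL : PicF.IsInvertible L := Groth.Agent.CalgB.AmpleRel.isInvertible_of_isRelAmple hample
  let ζ : Y₀ ⟶ pullback p g' := pullback.lift j f₀ hjp
  have hζ1 : ζ ≫ pullback.fst p g' = j := pullback.lift_fst _ _ _
  have hζ2 : ζ ≫ pullback.snd p g' = f₀ := pullback.lift_snd _ _ _
  have hWqs : QuasiSeparatedSpace ↥(pullback p g') :=
    quasiSeparatedSpace_of_quasiSeparated (pullback.fst p g')
  have hζqc : QuasiCompact ζ := inferInstance
  let z := ζ.toImage
  let i := ζ.imageι
  have hi : IsClosedImmersion i := inferInstanceAs (IsClosedImmersion ζ.imageι)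
  have hzi : z ≫ i = ζ := ζ.toImage_imageι
  have hzdom : IsSchemeTheoreticallyDominant z := K265.YTriv.isSchemeTheoreticallyDominant_toImage ζ
  have hzqc : QuasiCompact z := inferInstanceAs (QuasiCompact ζ.toImage)
  let π : ζ.image ⟶ P := i ≫ pullback.fst p g'
  have hπ : IsProper π := inferInstance
  have hzπ : z ≫ π = j := by rw [← Category.assoc, hzi, hζ1]
  have hiso : IsIso (pullback.snd π j) := isIso_snd z π j hzπ
  have hiso' : IsIso (π ∣_ j.opensRange) :=
    ((MorphismProperty.isomorphisms Scheme).arrow_mk_iso_iff (morphismRestrictOpensRange π j)).mpr hiso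
  obtain ⟨I, B, b, hb, hadm, h, hh⟩ := Groth.Agent.S1274.result π j.opensRange (isCompact_range j.continuous)
  have hbp : IsProper b := Groth.Agent.Flat2C.BlowProper.isProper_of_isBlowUp hb hadm.1
  have hsupp : ∀ x ∈ nv L s, x ∉ I.support := by
    intro x hx hx'
    rw [hnv] at hx
    exact Set.disjoint_left.mp hadm.2 hx' hx
  obtain ⟨fB, hfB⟩ := exists_lift_blowUp hb (a ≫ j) (fun y => hsupp _ (by
    rw [hnv]
    exact ⟨a y, rfl⟩))
  have hfBh : fB ≫ h = a ≫ z := by
    refine eq_of_comp_eq π j _ _ a ?_ ?_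
    · rw [Category.assoc, hh, hfB]
    · rw [Category.assoc, hzπ]
  obtain ⟨N, hN⟩ := K361.BlowSec.exists_section b I hL s hsupp
  obtain ⟨n₀, -, hn₀⟩ := Groth.Agent.Ega2.RelAmp.relAmple_comp b p (ClSub.idealMod (I.comap b)) L
    (Groth.Agent.Pic13.H17.ChowBlow.isRelAmple_exceptional hb) hample
  obtain ⟨σ, hσ⟩ := hN (max N n₀) (le_max_left _ _)
  have hB := hn₀ (max N n₀) (le_max_right _ _)
  have hBinv := Groth.Agent.CalgB.AmpleRel.isInvertible_of_isRelAmple hB
  have hgen : IsGen (pullTop fB σ) := by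
    rw [isGen_pullTop_iff fB hBinv]
    intro y
    refine hσ _ ?_
    rw [hnv, ← Scheme.Hom.comp_apply, hfB]
    exact ⟨a y, rfl⟩
  have hiso2 : IsIso ((Scheme.Modules.pullback fB).map (homOf σ)) := by
    rw [K265.YTriv.isIso_map_iff_isGen]
    simpa using hgen
  have hBqs : QuasiSeparatedSpace B := quasiSeparatedSpace_of_quasiSeparated (b ≫ p)
  have hfBqc : QuasiCompact fB := inferInstance
  obtain ⟨L₁, ε₁, hL₁, hε₁⟩ := K265.YTriv.exists_restrict fB (b ≫ p) fB.toImage fB.imageι fB.toImage_imageι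
    (homOf σ) hB hiso2
  refine ⟨fB.image, fB.toImage, fB.imageι ≫ b ≫ p, fB.imageι ≫ h ≫ i ≫ pullback.snd p g', L₁, sec ε₁ ⊤,
    ⟨K265.YTriv.isSchemeTheoreticallyDominant_toImage fB, inferInstance, ?_, hL₁,
      (K265.YTriv.isIso_map_iff_isGen _ _).mp hε₁⟩, ?_, ?_⟩
  · rw [fB.toImage_imageι_assoc, ← Category.assoc, hfB, Category.assoc, hjp, ← Category.assoc, haf]
  · rw [fB.toImage_imageι_assoc, ← Category.assoc, hfBh, Category.assoc, ← Category.assoc z, hzi, hζ2, haf]
  · rw [Category.assoc, Category.assoc, Category.assoc, ← pullback.condition, ← hh]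
    simp only [π, Category.assoc]

end K361.AffBase
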