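import Groth.Agent.Dix.IdealModCartier
import Groth.Agent.Ega2.Nv
import Groth.Agent.Fdesc.LocGenAmple

/-!
# Sections of twists of the pulled back ideal

`exists_section`: for `b : B ⟶ P`, an ideal `I` of `P` whose support is disjoint from the nonvanishing locus
of a section `s` of an invertible module `L`, the powers `s^m`, `m ≫ 0`, are sections of
`I 𝒪_B ⊗ b^* L^m`, generating over the preimage of the nonvanishing locus of `s`.
-/

set_option autoImplicit false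
universe u
open CategoryTheory CategoryTheory.Limits AlgebraicGeometry TopologicalSpace Opposite

namespace K361.BlowSec

open Groth.Agent.Fdesc.LocGen Groth.Agent.Ega2.Nv Groth.Agent.Dix.IdealModCartier Groth.Agent.Divis.IdealComap

variable {B P : Scheme.{u}}

theorem mem_radical (I : P.IdealSheafData) (U : P.affineOpens) (a : Γ(P, U.1))
    (h : ∀ x ∈ P.basicOpen a, x ∉ I.support) : a ∈ (I.ideal U).radical := by
  rw [Ideal.radical_eq_sInf, Ideal.mem_sInf]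
  rintro p ⟨hp, hprime⟩
  by_contra hap
  have key : ∀ c : Γ(P, U.1), U.2.fromSpec ⟨p, hprime⟩ ∈ P.basicOpen c ↔ c ∉ p := by
    intro c
    have h1 := U.2.fromSpec_preimage_basicOpen c
    have h2 : (⟨p, hprime⟩ : PrimeSpectrum Γ(P, U.1)) ∈ PrimeSpectrum.basicOpen c ↔ c ∉ p := Iff.rfl
    rw [← h2, ← h1]
    rfl
  have hxU : U.2.fromSpec ⟨p, hprime⟩ ∈ U.1 := P.basicOpen_le a ((key a).mpr hap)
  refine h _ ((key a).mpr hap) ?_
  rw [I.mem_support_iff_of_mem hxU, Scheme.mem_zeroLocus_iff]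
  intro s hs hxs
  exact (key s).mp hxs (hp hs)

theorem ores_app_eq (b : B ⟶ P) {U V : P.Opens} (h : V ≤ U) (a : Γ(P, U)) :
    ores (show b ⁻¹ᵁ V ≤ b ⁻¹ᵁ U from b.preimage_mono h) (b.app U a) = b.app V (ores h a) := by
  have := b.naturality (homOfLE h).op
  exact congr(($this).hom a).symm

theorem exists_coef (b : B ⟶ P) (I : P.IdealSheafData) (U : P.affineOpens) (a : Γ(P, U.1))
    (ha : a ∈ I.ideal U) : ∃ c : Γ(ClSub.idealMod (I.comap b), b ⁻¹ᵁ U.1), val _ c = b.app U.1 a := by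
  refine exists_val_eq_of_local (I.comap b) (b ⁻¹ᵁ U.1) (b.app U.1 a) fun z hz => ?_
  obtain ⟨V, hV, hzV, hVU⟩ := exists_isAffineOpen_mem_and_subset (U := b ⁻¹ᵁ U.1) (x := z) hz
  refine ⟨⟨V, hV⟩, hVU, hzV, ?_⟩
  rw [ideal_comap I b U ⟨V, hV⟩ hVU]
  have h1 : ores hVU (b.app U.1 a) = (b.appLE U.1 V hVU).hom a := rfl
  rw [h1]
  exact Ideal.mem_map_of_mem _ ha

/-- The powers of `s` as sections of the twisted pulled back ideal. -/
theorem exists_section [CompactSpace P] (b : B ⟶ P) (I : P.IdealSheafData) {L : P.Modules}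
    (hL : PicF.IsInvertible L) (s : Γ(L, ⊤)) (hs : ∀ x ∈ nv L s, x ∉ I.support) :
    ∃ N : ℕ, ∀ m, N ≤ m → ∃ σ : Γ(CohB1.tensorMod (ClSub.idealMod (I.comap b))
        ((Scheme.Modules.pullback b).obj (CohB1.tensorPow L m)), ⊤),
      ∀ z : B, b z ∈ nv L s → z ∈ nv _ σ := by
  obtain ⟨k, ⟨T⟩⟩ := exists_triv hL
  have h1 : ∀ i, ∃ a : Γ(P, T.U i), res L le_top s = a • T.e i := fun i => (T.gen i).exists_eq _
  choose a ha using h1
  have hbas : ∀ i, P.basicOpen (a i) = T.U i ⊓ nv L s := by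
    intro i
    rw [← nv_res L s (le_top : T.U i ≤ ⊤), ha i, nv_smul (T.gen i)]
  have h2 : ∀ i, ∃ n : ℕ, a i ^ n ∈ I.ideal ⟨T.U i, T.affine i⟩ := by
    intro i
    have := mem_radical I ⟨T.U i, T.affine i⟩ (a i) (fun x hx => hs x (by
      rw [hbas i] at hx
      exact hx.2))
    exact this
  choose n hn using h2
  have haij : ∀ i j, ores (inf_le_left : T.U i ⊓ T.U j ≤ T.U i) (a i) =
      T.g i j * ores (inf_le_right : T.U i ⊓ T.U j ≤ T.U j) (a j) := by
    intro i j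
    apply ((T.gen i).res inf_le_left).ext
    have e1 := congr(res L (inf_le_left : T.U i ⊓ T.U j ≤ T.U i) $(ha i))
    have e2 := congr(res L (inf_le_right : T.U i ⊓ T.U j ≤ T.U j) $(ha j))
    rw [res_res, res_smul] at e1 e2
    rw [← e1, e2, T.hg, smul_smul, mul_comm]
  refine ⟨Finset.univ.sup n, fun m hm => ?_⟩
  have h3 : ∀ i, a i ^ m ∈ I.ideal ⟨T.U i, T.affine i⟩ := fun i =>
    Ideal.pow_mem_of_pow_mem _ (hn i) ((Finset.le_sup (f := n) (Finset.mem_univ i)).trans hm)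
  choose c hc using fun i => exists_coef b I ⟨T.U i, T.affine i⟩ (a i ^ m) (h3 i)
  let G : ∀ i j, Γ(B, b ⁻¹ᵁ T.U i ⊓ b ⁻¹ᵁ T.U j) := fun i j => b.app (T.U i ⊓ T.U j) (T.g i j ^ m)
  have hcij : ∀ i j, res _ (inf_le_left : b ⁻¹ᵁ T.U i ⊓ b ⁻¹ᵁ T.U j ≤ b ⁻¹ᵁ T.U i) (c i) =
      G i j • res _ (inf_le_right : b ⁻¹ᵁ T.U i ⊓ b ⁻¹ᵁ T.U j ≤ b ⁻¹ᵁ T.U j) (c j) := by
    intro i j
    apply val_injective
    rw [val_res, val_smul, val_res, hc i, hc j]
    have e1 := ores_app_eq b (inf_le_left : T.U i ⊓ T.U j ≤ T.U i) (a i ^ m)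
    have e2 := ores_app_eq b (inf_le_right : T.U i ⊓ T.U j ≤ T.U j) (a j ^ m)
    refine e1.trans ?_
    refine Eq.trans ?_ (congrArg (fun t => G i j * t) e2.symm)
    have e3 : ores (inf_le_left : T.U i ⊓ T.U j ≤ T.U i) (a i ^ m) =
        T.g i j ^ m * ores (inf_le_right : T.U i ⊓ T.U j ≤ T.U j) (a j ^ m) := by
      rw [map_pow, haij i j, map_pow, mul_pow]
    exact (congrArg (fun t => b.app (T.U i ⊓ T.U j) t) e3).trans (map_mul (b.app (T.U i ⊓ T.U j)).hom _ _)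
  have hpij : ∀ i j, res _ (inf_le_right : b ⁻¹ᵁ T.U i ⊓ b ⁻¹ᵁ T.U j ≤ b ⁻¹ᵁ T.U j)
      (pullSec b (pow (T.e j) m)) =
      G i j • res _ (inf_le_left : b ⁻¹ᵁ T.U i ⊓ b ⁻¹ᵁ T.U j ≤ b ⁻¹ᵁ T.U i) (pullSec b (pow (T.e i) m)) := by
    intro i j
    have e1 := res_pullSec b (inf_le_left : T.U i ⊓ T.U j ≤ T.U i) (pow (T.e i) m)
    have e2 := res_pullSec b (inf_le_right : T.U i ⊓ T.U j ≤ T.U j) (pow (T.e j) m)
    refine e2.trans ?_
    rw [T.res_pow, pullSec_smul]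
    exact congrArg (fun t : Γ((Scheme.Modules.pullback b).obj (CohB1.tensorPow L m),
      b ⁻¹ᵁ T.U i ⊓ b ⁻¹ᵁ T.U j) => G i j • t) e1.symm
  have hcov : (⊤ : B.Opens) ≤ ⨆ i, b ⁻¹ᵁ T.U i := by
    rw [← Scheme.Hom.preimage_iSup, T.cover]
    exact le_rfl
  obtain ⟨σ, hσ⟩ := res_glue (CohB1.tensorMod (ClSub.idealMod (I.comap b))
        ((Scheme.Modules.pullback b).obj (CohB1.tensorPow L m))) (fun i => b ⁻¹ᵁ T.U i) (fun _ => le_top)
    hcov (fun i => tmul (c i) (pullSec b (pow (T.e i) m))) (by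
      intro i j
      rw [res_tmul, res_tmul, hcij, hpij, smul_tmul, tmul_smul])
  refine ⟨σ, fun z hz => ?_⟩
  obtain ⟨i, hi⟩ := Opens.mem_iSup.mp (hcov (show z ∈ (⊤ : B.Opens) from trivial))
  have hzi : z ∈ b ⁻¹ᵁ P.basicOpen (a i) := by
    change b z ∈ P.basicOpen (a i)
    rw [hbas i]
    exact ⟨hi, hz⟩
  have hle : b ⁻¹ᵁ P.basicOpen (a i) ≤ b ⁻¹ᵁ T.U i := b.preimage_mono (P.basicOpen_le _)
  have hgc : IsGen (res _ hle (c i)) := by
    apply isGen_of_genOn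
    intro V hV
    rw [val_res, hc i, ores_ores, map_pow, map_pow]
    have hu : IsUnit (ores (hV.trans hle) (b.app (T.U i) (a i))) := by
      have h5 : V.1 ≤ B.basicOpen (b.app (T.U i) (a i)) := by
        rw [← Scheme.preimage_basicOpen]
        exact hV
      have h6 := B.toRingedSpace.isUnit_res_basicOpen (b.app (T.U i) (a i))
      have h7 := h6.map (ores h5)
      have h8 : ores h5 ((B.presheaf.map (homOfLE (B.basicOpen_le (b.app (T.U i) (a i)))).op)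
          (b.app (T.U i) (a i))) = ores (hV.trans hle) (b.app (T.U i) (a i)) :=
        ores_ores (B.basicOpen_le (b.app (T.U i) (a i))) h5 _
      rw [← h8]
      exact h7
    refine ⟨IsUnit.mem_nonZeroDivisors (hu.pow m), ?_⟩
    rw [Ideal.span_singleton_eq_top.mpr (hu.pow m)]
    refine Ideal.eq_top_of_isUnit_mem _ ?_ (hu.pow m)
    have h9 := val_mem (I.comap b) V (res _ (hV.trans hle) (c i))
    rw [val_res, hc i, map_pow, map_pow] at h9
    exact h9
  have hgσ : IsGen (res _ (le_top : b ⁻¹ᵁ P.basicOpen (a i) ≤ ⊤) σ) := by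
    rw [← res_res _ le_top hle, hσ i, res_tmul]
    refine hgc.tmul ?_
    have h10 := (((T.gen i).pow m).pullSec b).res hle
    exact h10
  exact (le_nv_iff _ σ le_top).mpr hgσ hzi

end K361.BlowSec
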