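import Groth.Agent.FlatMor.K361.YGlue
import Groth.Agent.Ega3B.PullTensor
import Groth.Agent.S4387

/-!
# Extension of `Y`-blow-ups from a quasi-compact open
-/

set_option autoImplicit false
universe u
open CategoryTheory CategoryTheory.Limits AlgebraicGeometry TopologicalSpace Opposite

namespace K361.YExtend

open Groth.Agent.Fdesc.LocGen Groth.Agent.Ega2.Nv K361.PnAux K361.ExtPn K361.YGlue
open Groth.Agent.K385.VeryAmpleBC

/-- Over an open of an affine scheme, a relatively ample module is ample. -/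
theorem isAmple_of_isRelAmple {Z E W : Scheme.{u}} [IsAffine W] (q : E ⟶ W) [IsOpenImmersion q] [CompactSpace E]
    (z : Z ⟶ E) {L : Z.Modules} (hL : RelAmple.IsRelAmple z L) : CohB1.IsAmple L := by
  obtain ⟨m, a, ha, hcov⟩ := exists_family q
  rw [Groth.Agent.Ega2.Ample.isAmple_iff_ampleOn_top]
  refine Groth.Agent.Ega2.Ample.ampleOn_of_basicOpen_cover (fun i => z.appTop (q.appTop (a i))) ?_ fun i => ?_
  · intro x _
    obtain ⟨i, hi⟩ := hcov (z x)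
    refine Opens.mem_iSup.mpr ⟨i, ?_⟩
    rw [← Scheme.preimage_basicOpen_top, ← Scheme.preimage_basicOpen_top]
    exact hi
  · rw [← Scheme.preimage_basicOpen_top, ← Scheme.preimage_basicOpen_top]
    refine (Groth.Agent.Ega2.RelAmp.isRelAmple_iff.mp hL).2 ⟨q ⁻¹ᵁ (W.basicOpen (a i)), ?_⟩
    have h1 : IsAffineOpen (W.basicOpen (a i)) := (isAffineOpen_top W).basicOpen (a i)
    exact h1.preimage_of_isOpenImmersion q (ha i)

/-- Some positive power becomes very ample over the overlap. -/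
theorem exists_pow {X V W X' : Scheme.{u}} (v : V ⟶ X) (w : W ⟶ X) [IsOpenImmersion v] [IsOpenImmersion w]
    [IsAffine W] [CompactSpace ↥(pullback v w)] (g' : X' ⟶ V) [IsProper g'] {L : X'.Modules}
    (hL : RelAmple.IsRelAmple g' L) : ∃ n : ℕ, 0 < n ∧
      RelAmple.IsRelVeryAmplePn (pullback.snd g' (pullback.fst v w))
      ((Scheme.Modules.pullback (pullback.fst g' (pullback.fst v w))).obj (CohB1.tensorPow L n)) := by
  have hinv : PicF.IsInvertible L := Groth.Agent.CalgB.AmpleRel.isInvertible_of_isRelAmple hL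
  have h1 := Groth.Agent.Ega2.RelAmp.relAmple_baseChange g' (pullback.fst v w) L hL
  have h2 := isAmple_of_isRelAmple (pullback.snd v w) _ h1
  obtain ⟨n₀, hn₀⟩ := K386.VeryAmple.exists_forall_isRelVeryAmplePn (pullback.snd g' (pullback.fst v w)) h2
  obtain ⟨e⟩ := Groth.Agent.Ega3B.PullTensor.nonempty_pullPowIso (pullback.fst g' (pullback.fst v w)) hinv (n₀ + 1)
  exact ⟨n₀ + 1, Nat.succ_pos _, of_iso (hn₀ (n₀ + 1) (Nat.le_succ _)) e.symm⟩

theorem isYB_pow {Y X X₁ : Scheme.{u}} {f : Y ⟶ X} {f₁ : Y ⟶ X₁} {g₁ : X₁ ⟶ X} {L : X₁.Modules}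
    {s : Γ(L, ⊤)} (h : IsYB f f₁ g₁ L s) {n : ℕ} (hn : 0 < n) :
    IsYB f f₁ g₁ (CohB1.tensorPow L n) (pow s n) := by
  have hinv : PicF.IsInvertible L := Groth.Agent.CalgB.AmpleRel.isInvertible_of_isRelAmple h.ample
  have hp := h.proper
  refine ⟨h.dom, h.proper, h.fac, (Groth.Agent.S4387.result g₁ L hinv n hn).mp h.ample, ?_⟩
  have h1 := K265.YTriv.isIso_map_powHom f₁ hinv n (homOf s) (by
    rw [K265.YTriv.isIso_map_iff_isGen, sec_homOf, res_refl]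
    exact h.gen)
  rw [K265.YTriv.isIso_map_iff_isGen, sec_powHom, sec_homOf, res_refl] at h1
  exact h1

section induction

variable {X Y : Scheme.{u}} (f : Y ⟶ X) [IsAffineHom f] [QuasiSeparatedSpace X]

/-- `(X', f', g')` over the open `U` extends to a `Y`-blow-up over the larger open `T`. -/
def ExtTo {U : X.Opens} {X' : Scheme.{u}} (f' : ↑(f ⁻¹ᵁ U) ⟶ X') (g' : X' ⟶ ↑U) (T : X.Opens) : Prop :=
  ∀ h : U ≤ T, ∃ (X₁ : Scheme.{u}) (f₁ : ↑(f ⁻¹ᵁ T) ⟶ X₁) (g₁ : X₁ ⟶ ↑T) (r : X' ⟶ X₁) (L : X₁.Modules)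
    (s : Γ(L, ⊤)), IsYB (f ∣_ T) f₁ g₁ L s ∧ IsPullback r g' g₁ (X.homOfLE h) ∧
      f' ≫ r = Y.homOfLE (f.preimage_mono h) ≫ f₁

/-- One step: from `U` to `U ⊔ W`, `W` affine. -/
theorem extTo_sup_affine {U : X.Opens} (hU : IsCompact (U : Set X)) {W : X.Opens} (hW : IsAffineOpen W)
    {X' : Scheme.{u}} (f' : ↑(f ⁻¹ᵁ U) ⟶ X') (g' : X' ⟶ ↑U) {L : X'.Modules} {s : Γ(L, ⊤)}
    (hYB : IsYB (f ∣_ U) f' g' L s) : ExtTo f f' g' (U ⊔ W) := by
  intro hUW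
  let v : (U : Scheme.{u}) ⟶ ↑(U ⊔ W) := X.homOfLE hUW
  let w : (W : Scheme.{u}) ⟶ ↑(U ⊔ W) := X.homOfLE le_sup_right
  have hWa : IsAffine (W : Scheme.{u}) := hW
  have hUc : CompactSpace (U : Scheme.{u}) := isCompact_iff_compactSpace.mp hU
  have hqs : QuasiSeparatedSpace ↥((U ⊔ W : X.Opens) : Scheme.{u}) :=
    quasiSeparatedSpace_of_quasiSeparated (U ⊔ W).ι
  have hv : QuasiCompact v := inferInstance
  have hc : CompactSpace ↥(pullback v w) := by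
    have : QuasiCompact (pullback.snd v w) := inferInstance
    exact QuasiCompact.compactSpace_of_compactSpace (pullback.snd v w)
  have hcov : ∀ x : ((U ⊔ W : X.Opens) : Scheme.{u}), x ∈ Set.range v ∨ x ∈ Set.range w := by
    rintro ⟨x, hx⟩
    rcases hx with hx | hx
    · left
      have : (⟨x, Or.inl hx⟩ : ((U ⊔ W : X.Opens) : Scheme.{u})) ∈ (X.homOfLE hUW).opensRange := by
        rw [Scheme.opensRange_homOfLE]; exact hx
      exact this
    · right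
      have : (⟨x, Or.inr hx⟩ : ((U ⊔ W : X.Opens) : Scheme.{u})) ∈ (X.homOfLE (le_sup_right : W ≤ U ⊔ W)).opensRange := by
        rw [Scheme.opensRange_homOfLE]; exact hx
      exact this
  have hp := hYB.proper
  obtain ⟨n, hn, hva⟩ := exists_pow v w g' hYB.ample
  have hfa : IsAffineHom (f ∣_ (U ⊔ W)) :=
    MorphismProperty.of_isPullback (P := @IsAffineHom) (isPullback_morphismRestrict f (U ⊔ W)).flip ‹_›
  obtain ⟨X₁, f₁, g₁, r, L₁, s₁, h1, h2, h3⟩ := exists_ext_glue (f ∣_ (U ⊔ W)) v w hcov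
    (isPullback_homOfLE f hUW) f' g' _ _ (isYB_pow hYB hn) hva
  exact ⟨X₁, f₁, g₁, r, L₁, s₁, h1, h2, h3⟩

omit [IsAffineHom f] [QuasiSeparatedSpace X] in
theorem ExtTo.trans {U : X.Opens} {X' : Scheme.{u}} {f' : ↑(f ⁻¹ᵁ U) ⟶ X'} {g' : X' ⟶ ↑U} {T : X.Opens}
    (hUT : U ≤ T) (h : ExtTo f f' g' T) {T' : X.Opens} (hTT' : T ≤ T')
    (hstep : ∀ {X₁ : Scheme.{u}} (f₁ : ↑(f ⁻¹ᵁ T) ⟶ X₁) (g₁ : X₁ ⟶ ↑T) {L : X₁.Modules} {s : Γ(L, ⊤)},
      IsYB (f ∣_ T) f₁ g₁ L s → ExtTo f f₁ g₁ T') : ExtTo f f' g' T' := by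
  intro hUT'
  obtain ⟨X₁, f₁, g₁, r, L, s, hYB, sq, hr⟩ := h hUT
  obtain ⟨X₂, f₂, g₂, r₂, L₂, s₂, hYB₂, sq₂, hr₂⟩ := hstep f₁ g₁ hYB hTT'
  refine ⟨X₂, f₂, g₂, r ≫ r₂, L₂, s₂, hYB₂, ?_, ?_⟩
  · have := sq.paste_horiz sq₂
    rwa [Scheme.homOfLE_homOfLE] at this
  · rw [← Category.assoc, hr, Category.assoc, hr₂, ← Category.assoc, Scheme.homOfLE_homOfLE]

omit [IsAffineHom f] [QuasiSeparatedSpace X] in
theorem extTo_self {U : X.Opens} {X' : Scheme.{u}} (f' : ↑(f ⁻¹ᵁ U) ⟶ X') (g' : X' ⟶ ↑U) {L : X'.Modules}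
    {s : Γ(L, ⊤)} (hYB : IsYB (f ∣_ U) f' g' L s) : ExtTo f f' g' U := by
  intro h
  refine ⟨X', f', g', 𝟙 _, L, s, hYB, ?_, ?_⟩
  · have : X.homOfLE h = 𝟙 _ := by simp
    rw [this]
    exact IsPullback.of_horiz_isIso ⟨by simp⟩
  · have : Y.homOfLE (f.preimage_mono h) = 𝟙 _ := by simp
    rw [this, Category.comp_id, Category.id_comp]

theorem extTo_of_isCompact {U : X.Opens} (hU : IsCompact (U : Set X)) {X' : Scheme.{u}}
    (f' : ↑(f ⁻¹ᵁ U) ⟶ X') (g' : X' ⟶ ↑U) {L : X'.Modules} {s : Γ(L, ⊤)} (hYB : IsYB (f ∣_ U) f' g' L s)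
    (S : X.Opens) (hS : IsCompact (S : Set X)) : ExtTo f f' g' (U ⊔ S) := by
  refine compact_open_induction_on (P := fun S => ExtTo f f' g' (U ⊔ S)) S hS ?_ ?_
  · rw [sup_bot_eq]
    exact extTo_self f f' g' hYB
  · intro S hS W ih
    rw [← sup_assoc]
    refine ExtTo.trans f le_sup_left ih le_sup_left fun f₁ g₁ L s h1 => ?_
    exact extTo_sup_affine f (hU.union hS) W.2 f₁ g₁ h1

end induction

end K361.YExtend
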