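import Groth.Agent.FlatMor.K361.AffBase
import Groth.Agent.FlatMor.K265.YDom
import Groth.Agent.Grpsch.Cotangent
import Groth.Agent.S17894

/-!
# Every `Y`-modification is dominated by a `Y`-blow-up

Induction on quasi-compact opens of the base: `exists_dominating` produces a `Y`-blow-up `X₁` of `X` with local
factorizations `X₁ ⊇ N ⟶ X'` over the given open; they glue by schematic dominance.
-/

set_option autoImplicit false
universe u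
open CategoryTheory CategoryTheory.Limits AlgebraicGeometry TopologicalSpace Opposite

namespace K361.Domin

variable {X Y X' : Scheme.{u}} (f' : Y ⟶ X') (g' : X' ⟶ X)

/-- `(X₁, f₁, g₁)` is a `Y`-blow-up of `X`. -/
def YB (f : Y ⟶ X) {X₁ : Scheme.{u}} (f₁ : Y ⟶ X₁) (g₁ : X₁ ⟶ X) : Prop :=
  IsSchemeTheoreticallyDominant f₁ ∧ IsProper g₁ ∧ f₁ ≫ g₁ = f ∧
    ∃ (L : X₁.Modules) (ε : Coh.structureModule X₁ ⟶ L),
      RelAmple.IsRelAmple g₁ L ∧ IsIso ((Scheme.Modules.pullback f₁).map ε)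

/-- `d` is a factorization to `X'` over `e : E ⟶ X₁`. -/
structure Good {X₁ E : Scheme.{u}} (f₁ : Y ⟶ X₁) (g₁ : X₁ ⟶ X) (e : E ⟶ X₁) (d : E ⟶ X') : Prop where
  w : d ≫ g' = e ≫ g₁
  fac : ∀ {T : Scheme.{u}} (y : T ⟶ Y) (x : T ⟶ E), y ≫ f₁ = x ≫ e → x ≫ d = y ≫ f'

variable {f' g'} in
theorem Good.comp {X₁ X₄ E E' : Scheme.{u}} {f₁ : Y ⟶ X₁} {g₁ : X₁ ⟶ X} {e : E ⟶ X₁} {d : E ⟶ X'}
    (h : Good f' g' f₁ g₁ e d) {f₄ : Y ⟶ X₄} {g₄ : X₄ ⟶ X} (t : X₄ ⟶ X₁) (hf : f₄ ≫ t = f₁) (hg : t ≫ g₁ = g₄)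
    (e' : E' ⟶ X₄) (k : E' ⟶ E) (hk : k ≫ e = e' ≫ t) : Good f' g' f₄ g₄ e' (k ≫ d) := by
  constructor
  · rw [Category.assoc, h.w, ← Category.assoc, hk, Category.assoc, hg]
  · intro T y x hyx
    rw [← Category.assoc]
    refine h.fac y (x ≫ k) ?_
    rw [← hf, ← Category.assoc, hyx, Category.assoc, Category.assoc, hk]

variable {f' g'} in
theorem Good.uniq [IsSeparated g'] {X₁ E : Scheme.{u}} {f₁ : Y ⟶ X₁} [IsSchemeTheoreticallyDominant f₁]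
    [QuasiCompact f₁] {g₁ : X₁ ⟶ X} {e : E ⟶ X₁} [Flat e] {d d' : E ⟶ X'}
    (h : Good f' g' f₁ g₁ e d) (h' : Good f' g' f₁ g₁ e d') : d = d' := by
  refine Groth.Agent.Grpsch.Cotangent.ext_of_isSchemeTheoreticallyDominant g' (h.w.trans h'.w.symm)
    (pullback.snd f₁ e) ?_
  rw [h.fac (pullback.fst f₁ e) (pullback.snd f₁ e) pullback.condition,
    h'.fac (pullback.fst f₁ e) (pullback.snd f₁ e) pullback.condition]

/-- Local factorizations over `S`. -/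
def LocGood {X₁ : Scheme.{u}} (f₁ : Y ⟶ X₁) (g₁ : X₁ ⟶ X) (S : X.Opens) : Prop :=
  ∀ x : X₁, g₁ x ∈ S → ∃ (N : X₁.Opens) (_ : x ∈ N) (d : N.toScheme ⟶ X'), Good f' g' f₁ g₁ N.ι d

variable {f' g'} in
theorem LocGood.comp {X₁ X₄ : Scheme.{u}} {f₁ : Y ⟶ X₁} {g₁ : X₁ ⟶ X} {S : X.Opens}
    (h : LocGood f' g' f₁ g₁ S) {f₄ : Y ⟶ X₄} {g₄ : X₄ ⟶ X} (t : X₄ ⟶ X₁) (hf : f₄ ≫ t = f₁) (hg : t ≫ g₁ = g₄) :
    LocGood f' g' f₄ g₄ S := by
  intro x hx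
  have hx' : g₁ (t x) ∈ S := by
    rw [← Scheme.Hom.comp_apply, hg]
    exact hx
  obtain ⟨N, hxN, d, hd⟩ := h (t x) hx'
  exact ⟨t ⁻¹ᵁ N, hxN, (t ∣_ N) ≫ d, hd.comp t hf hg _ _ (morphismRestrict_ι t N)⟩

variable {f' g'} in
/-- Local factorizations everywhere glue. -/
theorem exists_glue [IsSeparated g'] {X₁ : Scheme.{u}} {f₁ : Y ⟶ X₁} [IsSchemeTheoreticallyDominant f₁]
    [QuasiCompact f₁] {g₁ : X₁ ⟶ X} (h : LocGood f' g' f₁ g₁ ⊤) :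
    ∃ d : X₁ ⟶ X', f₁ ≫ d = f' ∧ d ≫ g' = g₁ := by
  choose N hxN d hd using fun x => h x trivial
  let U : X₁.OpenCover := Scheme.Cover.mkOfCovers (J := X₁) (fun x => (N x).toScheme) (fun x => (N x).ι)
    (fun x => ⟨x, ⟨x, hxN x⟩, rfl⟩) (fun x => inferInstance)
  have hglue : ∀ x y : X₁, pullback.fst (U.f x) (U.f y) ≫ d x = pullback.snd (U.f x) (U.f y) ≫ d y := by
    intro x y
    have : IsOpenImmersion (U.f x) := inferInstanceAs (IsOpenImmersion (N x).ι)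
    have : IsOpenImmersion (U.f y) := inferInstanceAs (IsOpenImmersion (N y).ι)
    have h1 := (hd x).comp (𝟙 _) (Category.comp_id _) (Category.id_comp _)
      (pullback.fst (U.f x) (U.f y) ≫ U.f x) (pullback.fst (U.f x) (U.f y)) (Category.comp_id _).symm
    have h2 := (hd y).comp (𝟙 _) (Category.comp_id _) (Category.id_comp _)
      (pullback.fst (U.f x) (U.f y) ≫ U.f x) (pullback.snd (U.f x) (U.f y))
      (pullback.condition.symm.trans (Category.comp_id _).symm)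
    exact h1.uniq h2
  have hι := U.ι_glueMorphisms d hglue
  have key : ∀ x : X₁, pullback.fst f₁ (U.f x) ≫ f₁ ≫ U.glueMorphisms d hglue = pullback.fst f₁ (U.f x) ≫ f' := by
    intro x
    rw [← Category.assoc, pullback.condition, Category.assoc, hι x]
    exact (hd x).fac (pullback.fst f₁ (U.f x)) (pullback.snd f₁ (U.f x)) pullback.condition
  refine ⟨U.glueMorphisms d hglue, ?_, ?_⟩
  · exact Scheme.Cover.hom_ext (U.pullback₁ f₁) _ _ key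
  · refine U.hom_ext _ _ fun x => ?_
    rw [← Category.assoc, hι x]
    exact (hd x).w

section main

variable {f : Y ⟶ X} [CompactSpace X] [QuasiSeparatedSpace X] [CompactSpace Y] [QuasiSeparatedSpace Y]
  [IsAffineHom f] [IsProper g'] (hf' : f' ≫ g' = f)

include hf'

/-- The case of an affine open. -/
theorem exists_affine (W : X.Opens) (hW : IsAffineOpen W) :
    ∃ (X₁ : Scheme.{u}) (f₁ : Y ⟶ X₁) (g₁ : X₁ ⟶ X), YB f f₁ g₁ ∧ LocGood f' g' f₁ g₁ W := by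
  subst hf'
  have hWa : IsAffine (W : Scheme.{u}) := hW
  have hYa : IsAffine ((f' ≫ g') ⁻¹ᵁ W : Y.Opens).toScheme := hW.preimage (f' ≫ g')
  have hYa' : IsAffine (f' ⁻¹ᵁ g' ⁻¹ᵁ W : Y.Opens).toScheme := hYa
  have hgW : IsProper (g' ∣_ W) := inferInstance
  obtain ⟨X₂, f₂, g₂, d₂, L, s, hYB, hd1, hd2⟩ :=
    K361.AffBase.exists_dominating_affine (f' ∣_ (g' ⁻¹ᵁ W)) (g' ∣_ W)
  obtain ⟨X₃, f₃, g₃, r, hYB₃, hr, hrange, hrg, hrf⟩ := Groth.Agent.S17894.result (f' ≫ g') W hW.isCompact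
    f₂ g₂ ⟨hYB.dom, hYB.proper, hYB.fac.trans (morphismRestrict_comp f' g' W).symm, L, Groth.Agent.Fdesc.LocGen.homOf s,
      hYB.ample, by
        rw [K265.YTriv.isIso_map_iff_isGen, Groth.Agent.Fdesc.LocGen.sec_homOf, Groth.Agent.Fdesc.LocGen.res_refl]
        exact hYB.gen⟩
  refine ⟨X₃, f₃, g₃, hYB₃, ?_⟩
  have hgood : Good f' g' f₃ g₃ r (d₂ ≫ (g' ⁻¹ᵁ W).ι) := by
    constructor
    · rw [Category.assoc, ← morphismRestrict_ι, ← Category.assoc, hd2, hrg]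
    · intro T y x hyx
      have h1 : y ≫ f' ≫ g' = (x ≫ g₂) ≫ W.ι := by
        rw [Category.assoc, ← hrg, ← Category.assoc x, ← hyx, Category.assoc, hYB₃.2.2.1]
      have sq := isPullback_morphismRestrict (f' ≫ g') W
      let y' : T ⟶ ((f' ≫ g') ⁻¹ᵁ W).toScheme := sq.lift (x ≫ g₂) y h1.symm
      have h2 : y' ≫ ((f' ≫ g') ⁻¹ᵁ W).ι = y := sq.lift_snd _ _ _
      have h3 : y' ≫ f₂ = x := by
        rw [← cancel_mono r, Category.assoc]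
        refine (congrArg (y' ≫ ·) hrf).trans ?_
        refine (Category.assoc _ _ _).symm.trans ?_
        rw [h2]
        exact hyx
      have h4 : f₂ ≫ d₂ ≫ (g' ⁻¹ᵁ W).ι = (f' ⁻¹ᵁ g' ⁻¹ᵁ W).ι ≫ f' := by
        rw [← Category.assoc, hd1, morphismRestrict_ι]
      rw [← h3, ← h2]
      refine (Category.assoc _ _ _).trans ((congrArg (y' ≫ ·) h4).trans ?_)
      exact (Category.assoc _ _ _).symm
  intro x hx
  have hN : (r.opensRange : Set X₃) = (g₃ ⁻¹ᵁ W : X₃.Opens) := hrange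
  have hxN : x ∈ r.opensRange := by
    have : x ∈ (r.opensRange : Set X₃) := by
      rw [hN]
      exact hx
    exact this
  refine ⟨r.opensRange, hxN, IsOpenImmersion.lift r r.opensRange.ι (by simp) ≫ d₂ ≫ (g' ⁻¹ᵁ W).ι, ?_⟩
  refine hgood.comp (𝟙 X₃) (Category.comp_id _) (Category.id_comp _) _ _ ?_
  rw [IsOpenImmersion.lift_fac, Category.comp_id]

/-- Induction over quasi-compact opens. -/
theorem exists_locGood (S : X.Opens) (hS : IsCompact (S : Set X)) :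
    ∃ (X₁ : Scheme.{u}) (f₁ : Y ⟶ X₁) (g₁ : X₁ ⟶ X), YB f f₁ g₁ ∧ LocGood f' g' f₁ g₁ S := by
  refine compact_open_induction_on (P := fun S => ∃ (X₁ : Scheme.{u}) (f₁ : Y ⟶ X₁) (g₁ : X₁ ⟶ X),
    YB f f₁ g₁ ∧ LocGood f' g' f₁ g₁ S) S hS ?_ ?_
  · exact exists_affine f' g' hf' ⊥ (isAffineOpen_bot X)
  · intro S hS W ⟨X₁, f₁, g₁, h1, h2⟩
    obtain ⟨X₂, f₂, g₂, h3, h4⟩ := exists_affine f' g' hf' W.1 W.2
    obtain ⟨-, hp₁, hf₁, L₁, ε₁, hL₁, hε₁⟩ := h1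
    obtain ⟨-, hp₂, hf₂, L₂, ε₂, hL₂, hε₂⟩ := h3
    obtain ⟨X₃, f₃, g₃, d₁, d₂, hYB, e1, e2, e3, e4⟩ := K265.YTriv.exists_dominating f f₁ g₁ f₂ g₂ hf₁ hf₂
      ε₁ hL₁ hε₁ ε₂ hL₂ hε₂
    refine ⟨X₃, f₃, g₃, hYB, fun x hx => ?_⟩
    rcases hx with hx | hx
    · exact h2.comp d₁ e1 e2 x hx
    · exact h4.comp d₂ e3 e4 x hx

/-- Every `Y`-modification is dominated by a `Y`-blow-up. -/
theorem exists_dominating : ∃ (X₁ : Scheme.{u}) (f₁ : Y ⟶ X₁) (g₁ : X₁ ⟶ X) (d : X₁ ⟶ X'),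
    YB f f₁ g₁ ∧ f₁ ≫ d = f' ∧ d ≫ g' = g₁ := by
  obtain ⟨X₁, f₁, g₁, h1, h2⟩ := exists_locGood f' g' hf' ⊤ isCompact_univ
  have hdom := h1.1
  have hp := h1.2.1
  have : QuasiSeparatedSpace X₁ := quasiSeparatedSpace_of_quasiSeparated g₁
  obtain ⟨d, hd1, hd2⟩ := exists_glue h2
  exact ⟨X₁, f₁, g₁, d, h1, hd1, hd2⟩

end main

end K361.Domin
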