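import Groth.Agent.FlatMor.K361.ExtPn
import Groth.Agent.FlatA.GlueTwo
import Groth.Agent.PerfC.ExtOpen
import Groth.Agent.EGA2.K32.CoprodAmple
import Groth.Agent.EGA2.K30.AmpleLoc
import Groth.Agent.Mor.K386.VeryAmple

/-!
# Gluing of projective modifications with trivialised relatively ample modules
-/

set_option autoImplicit false
universe u
open CategoryTheory CategoryTheory.Limits AlgebraicGeometry TopologicalSpace Opposite

namespace K361.YGlue

open Groth.Agent.Fdesc.LocGen Groth.Agent.Ega2.Nv K361.PnAux K361.ExtPn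

/-- the open cover given by two open immersions -/
noncomputable def cov {X X₁ X₂ : Scheme.{u}} (o₁ : X₁ ⟶ X) (o₂ : X₂ ⟶ X)
    [IsOpenImmersion o₁] [IsOpenImmersion o₂]
    (hcov : ∀ x : X, x ∈ Set.range o₁ ∨ x ∈ Set.range o₂) : X.OpenCover :=
  Scheme.Cover.mkOfCovers (J := WalkingPair) (fun b => b.rec X₁ X₂)
    (fun b => WalkingPair.rec (motive := fun b => (WalkingPair.rec X₁ X₂ b : Scheme.{u}) ⟶ X) o₁ o₂ b)
    (fun x => (hcov x).elim (fun ⟨y, hy⟩ => ⟨.left, y, hy⟩) (fun ⟨y, hy⟩ => ⟨.right, y, hy⟩))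
    (fun b => by cases b <;> infer_instance)

section two

variable {X X₁ X₂ Y : Scheme.{u}} (o₁ : X₁ ⟶ X) (o₂ : X₂ ⟶ X) [IsOpenImmersion o₁] [IsOpenImmersion o₂]
    (hcov : ∀ x : X, x ∈ Set.range o₁ ∨ x ∈ Set.range o₂)

include hcov

theorem hom_ext_two {f g : X ⟶ Y} (h₁ : o₁ ≫ f = o₁ ≫ g) (h₂ : o₂ ≫ f = o₂ ≫ g) : f = g := by
  apply Scheme.Cover.hom_ext (cov o₁ o₂ hcov)
  rintro (_ | _)
  · exact h₁
  · exact h₂

theorem exists_glue_two (f₁ : X₁ ⟶ Y) (f₂ : X₂ ⟶ Y)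
    (h : ∀ {T : Scheme.{u}} (a : T ⟶ X₁) (b : T ⟶ X₂), a ≫ o₁ = b ≫ o₂ → a ≫ f₁ = b ≫ f₂) :
    ∃ f : X ⟶ Y, o₁ ≫ f = f₁ ∧ o₂ ≫ f = f₂ := by
  let 𝒰 := cov o₁ o₂ hcov
  let F : ∀ i, 𝒰.X i ⟶ Y := fun i => by
    cases i
    · exact f₁
    · exact f₂
  have hF : ∀ i j, pullback.fst (𝒰.f i) (𝒰.f j) ≫ F i = pullback.snd _ _ ≫ F j := by
    rintro (_ | _) (_ | _)
    · have : pullback.fst o₁ o₁ = pullback.snd _ _ := by
        rw [← cancel_mono o₁, pullback.condition]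
      exact congr($this ≫ f₁)
    · exact h _ _ pullback.condition
    · exact (h _ _ pullback.condition.symm).symm
    · have : pullback.fst o₂ o₂ = pullback.snd _ _ := by
        rw [← cancel_mono o₂, pullback.condition]
      exact congr($this ≫ f₂)
  exact ⟨𝒰.glueMorphisms F hF, 𝒰.ι_glueMorphisms F hF .left, 𝒰.ι_glueMorphisms F hF .right⟩

end two

/-- Scheme-theoretic dominance is local at the target. -/
theorem dom_of_cover {X Y : Scheme.{u}} (f : X ⟶ Y) [QuasiCompact f] {ι : Type*} {U V : ι → Scheme.{u}}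
    (f' : ∀ i, U i ⟶ V i) (iU : ∀ i, U i ⟶ X) (iV : ∀ i, V i ⟶ Y) (hiV : ∀ i, IsOpenImmersion (iV i))
    (h : ∀ i, IsPullback (f' i) (iU i) (iV i) f) (hcov : ∀ y : Y, ∃ i, y ∈ Set.range (iV i))
    (hd : ∀ i, IsSchemeTheoreticallyDominant (f' i)) : IsSchemeTheoreticallyDominant f := by
  choose i hi using hcov
  choose v hv using hi
  have haff : ∀ y : Y, ∃ O : (V (i y)).Opens, IsAffineOpen O ∧ v y ∈ O := fun y => by
    obtain ⟨_, ⟨O, hO, rfl⟩, hO', -⟩ := (V (i y)).isBasis_affineOpens.exists_subset_of_mem_open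
      (Set.mem_univ (v y)) isOpen_univ
    exact ⟨O, hO, hO'⟩
  choose O hO hvO using haff
  rw [isSchemeTheoreticallyDominant_iff]
  refine Scheme.IdealSheafData.ext_of_iSup_eq_top
    (fun y : Y => ⟨(iV (i y)) ''ᵁ (O y), (hO y).image_of_isOpenImmersion (iV (i y))⟩) ?_ ?_
  · rw [eq_top_iff]
    intro y _
    exact TopologicalSpace.Opens.mem_iSup.2 ⟨y, v y, hvO y, hv y⟩
  · intro y
    have h6 := Scheme.ker_ideal_of_isPullback_of_isOpenImmersion f (f' (i y)) (iU (i y)) (iV (i y)) (h (i y))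
      ⟨O y, hO y⟩
    have := hd (i y)
    rw [(f' (i y)).ker_eq_bot] at h6
    refine le_antisymm (fun x hx => ?_) ?_
    · have h7 : ((iV (i y)).appIso (O y)).inv.hom (((iV (i y)).appIso (O y)).hom.hom x) = x := by
        rw [← CommRingCat.comp_apply]
        simp
      have h8 : ((iV (i y)).appIso (O y)).hom.hom x ∈
          (⊥ : (V (i y)).IdealSheafData).ideal ⟨O y, hO y⟩ := by
        rw [h6, Ideal.mem_comap]
        exact (congrArg (fun t => t ∈ f.ker.ideal ⟨(iV (i y)) ''ᵁ (O y),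
          (hO y).image_of_isOpenImmersion (iV (i y))⟩) h7).mpr hx
      rw [Scheme.IdealSheafData.ideal_bot, Pi.bot_apply, Ideal.mem_bot] at h8
      rw [← h7, h8, map_zero]
      exact Ideal.zero_mem _
    · rw [Scheme.IdealSheafData.ideal_bot]
      exact bot_le

section glue

open Groth.Agent.VarietyB.ModGlue (IsOverlap glue glueIsoU glueIsoV glueIso_compat tau tau_hom_app)

variable {G A B T : Scheme.{u}} (i₁ : A ⟶ G) (i₂ : B ⟶ G) [IsOpenImmersion i₁] [IsOpenImmersion i₂]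
  (hcov : ∀ x : G, x ∈ Set.range i₁ ∨ x ∈ Set.range i₂) (a : T ⟶ A) (ρ : T ⟶ B) [IsOpenImmersion a]
  [IsOpenImmersion ρ] (hw : a ≫ i₁ = ρ ≫ i₂) (hov : ∀ x y, i₁ x = i₂ y → ∃ z, a z = x)
  (M : A.Modules) (N : B.Modules)
  (e : (Scheme.Modules.pullback ρ).obj N ≅ (Scheme.Modules.pullback a).obj M) (s : Γ(M, ⊤)) (t : Γ(N, ⊤))
  (hst : e.hom.app ⊤ (pullTop ρ t) = pullTop a s)

/-- the section of the restriction attached to a global section -/
noncomputable def rsec {X Y : Scheme.{u}} (f : X ⟶ Y) [IsOpenImmersion f] {M : Y.Modules} (m : Γ(M, ⊤)) :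
    Γ(M.restrict f, ⊤) := toRestrict f (U := ⊤) (res M le_top m)

theorem rsec_iso {X Y : Scheme.{u}} (f : X ⟶ Y) [IsOpenImmersion f] {M : Y.Modules} (m : Γ(M, ⊤)) :
    ((Scheme.Modules.restrictFunctorIsoPullback f).app M).hom.app ⊤ (rsec f m) = pullTop f m :=
  restrictFunctorIsoPullback_hom_app f (U := ⊤) m

theorem inv_app_of_hom_app {X : Scheme.{u}} {M N : X.Modules} (e : M ≅ N) {U : X.Opens} {m : Γ(M, U)} {n : Γ(N, U)}
    (h : e.hom.app U m = n) : e.inv.app U n = m := by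
  rw [← h]
  exact congr(Scheme.Modules.Hom.app $(e.hom_inv_id) U m)

include hcov hw hov hst

/-- Gluing of two modules with sections. -/
theorem exists_glue_mod : ∃ (K : G.Modules) (σ : Γ(K, ⊤)) (eA : K.restrict i₁ ≅ M) (eB : K.restrict i₂ ≅ N),
    eA.hom.app ⊤ (rsec i₁ σ) = s ∧ eB.hom.app ⊤ (rsec i₂ σ) = t := by
  have H : IsOverlap i₁ i₂ (a ≫ i₁) a ρ :=
    { wa := rfl
      wb := hw.symm
      inter := by
        rintro _ ⟨⟨x, rfl⟩, ⟨y, hy⟩⟩
        obtain ⟨z, rfl⟩ := hov x y hy.symm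
        exact ⟨z, rfl⟩ }
  let e' : M.restrict a ≅ N.restrict ρ := (Scheme.Modules.restrictFunctorIsoPullback a).app M ≪≫ e.symm ≪≫
    ((Scheme.Modules.restrictFunctorIsoPullback ρ).app N).symm
  have he' : e'.hom.app ⊤ (rsec a s) = rsec ρ t := by
    have h1 := rsec_iso a s
    have h2 := inv_app_of_hom_app e hst
    have h3 := inv_app_of_hom_app _ (rsec_iso ρ t)
    change ((Scheme.Modules.restrictFunctorIsoPullback ρ).app N).inv.app ⊤
      (e.inv.app ⊤ (((Scheme.Modules.restrictFunctorIsoPullback a).app M).hom.app ⊤ (rsec a s))) = _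
    rw [h1, h2, h3]
  let K := glue H e'
  let u := glueIsoU H e'
  let v := glueIsoV H e'
  let sK : Γ(K, i₁ ''ᵁ ⊤) := (toRestrict i₁ (U := ⊤)).symm (u.inv.app ⊤ s)
  let tK : Γ(K, i₂ ''ᵁ ⊤) := (toRestrict i₂ (U := ⊤)).symm (v.inv.app ⊤ t)
  have hu : u.hom.app ⊤ (toRestrict i₁ (U := ⊤) sK) = s := by
    change u.hom.app ⊤ (toRestrict i₁ ((toRestrict i₁ (U := ⊤)).symm (u.inv.app ⊤ s))) = s
    rw [AddEquiv.apply_symm_apply]
    exact congr(Scheme.Modules.Hom.app $(u.inv_hom_id) ⊤ s)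
  have hv : v.hom.app ⊤ (toRestrict i₂ (U := ⊤) tK) = t := by
    change v.hom.app ⊤ (toRestrict i₂ ((toRestrict i₂ (U := ⊤)).symm (v.inv.app ⊤ t))) = t
    rw [AddEquiv.apply_symm_apply]
    exact congr(Scheme.Modules.Hom.app $(v.inv_hom_id) ⊤ t)
  -- the overlap
  have hle : i₂ ''ᵁ ρ ''ᵁ ⊤ ≤ i₁ ''ᵁ a ''ᵁ ⊤ := by
    rw [← Scheme.Hom.comp_image, ← Scheme.Hom.comp_image]
    simp [hw]
  have hle₁ : i₂ ''ᵁ ρ ''ᵁ ⊤ ≤ i₁ ''ᵁ ⊤ := hle.trans (i₁.image_mono le_top)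
  have hle₂ : i₂ ''ᵁ ρ ''ᵁ ⊤ ≤ i₂ ''ᵁ ⊤ := i₂.image_mono le_top
  have key : res K hle₁ sK = res K hle₂ tK := by
    let x : Γ((K.restrict i₁).restrict a, ⊤) :=
      toRestrict a (U := ⊤) (res (K.restrict i₁) le_top (toRestrict i₁ (U := ⊤) sK))
    have h0 := congr(Scheme.Modules.Hom.app $(glueIso_compat H e') ⊤ x)
    have h1 : ((Scheme.Modules.restrictFunctor a).map u.hom ≫ e'.hom).app ⊤ x = rsec ρ t := by
      rw [← he']
      change e'.hom.app ⊤ (u.hom.app (a ''ᵁ ⊤) (res (K.restrict i₁) le_top (toRestrict i₁ (U := ⊤) sK))) = _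
      rw [app_res, hu]
      rfl
    have h2 : ((tau H K).hom ≫ (Scheme.Modules.restrictFunctor ρ).map v.hom).app ⊤ x =
        v.hom.app (ρ ''ᵁ ⊤) (toRestrict i₂ (res K hle₁ sK)) := by
      have h3 : (tau H K).hom.app ⊤ x = res K hle₁ sK := by
        rw [tau_hom_app H K ⊤ hle]
        exact res_res K (i₁.image_mono le_top) hle sK
      change v.hom.app (ρ ''ᵁ ⊤) ((tau H K).hom.app ⊤ x) = _
      rw [h3]
      rfl
    have h4 : v.hom.app (ρ ''ᵁ ⊤) (toRestrict i₂ (res K hle₂ tK)) = rsec ρ t := by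
      have h5 : toRestrict i₂ (res K hle₂ tK) = res (K.restrict i₂) le_top (toRestrict i₂ (U := ⊤) tK) :=
        (res_toRestrict i₂ le_top tK).symm
      rw [h5, app_res, hv]
      rfl
    have h6 : v.hom.app (ρ ''ᵁ ⊤) (toRestrict i₂ (res K hle₁ sK)) =
        v.hom.app (ρ ''ᵁ ⊤) (toRestrict i₂ (res K hle₂ tK)) := by
      rw [h4, ← h2, ← h1]
      exact h0.symm
    have h7 := congrArg (v.inv.app (ρ ''ᵁ ⊤)) h6
    have h8 : ∀ y, v.inv.app (ρ ''ᵁ ⊤) (v.hom.app (ρ ''ᵁ ⊤) y) = y := fun y =>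
      congr(Scheme.Modules.Hom.app $(v.hom_inv_id) (ρ ''ᵁ ⊤) y)
    rw [h8, h8] at h7
    exact (toRestrict i₂).injective h7
  have hinf : i₁ ''ᵁ ⊤ ⊓ i₂ ''ᵁ ⊤ ≤ i₂ ''ᵁ ρ ''ᵁ ⊤ := by
    rintro _ ⟨⟨x, -, rfl⟩, ⟨y, -, hy⟩⟩
    obtain ⟨z, rfl⟩ := hov x y hy.symm
    refine ⟨ρ z, ⟨z, trivial, rfl⟩, ?_⟩
    exact congr($(hw.symm) z)
  let WW : Bool → G.Opens := fun b => bif b then i₁ ''ᵁ ⊤ else i₂ ''ᵁ ⊤
  let ss : ∀ b, Γ(K, WW b) := fun b => match b with
    | true => sK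
    | false => tK
  obtain ⟨σ, hσ⟩ := res_glue K (V := ⊤) WW (fun _ => le_top) (by
      intro x _
      rcases hcov x with ⟨y, hy⟩ | ⟨y, hy⟩
      · exact Opens.mem_iSup.mpr ⟨true, ⟨y, trivial, hy⟩⟩
      · exact Opens.mem_iSup.mpr ⟨false, ⟨y, trivial, hy⟩⟩) ss (by
    have h9 : res K (inf_le_left : i₁ ''ᵁ ⊤ ⊓ i₂ ''ᵁ ⊤ ≤ i₁ ''ᵁ ⊤) sK =
        res K (inf_le_right : i₁ ''ᵁ ⊤ ⊓ i₂ ''ᵁ ⊤ ≤ i₂ ''ᵁ ⊤) tK := by
      have := congrArg (res K hinf) key
      rwa [res_res, res_res] at this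
    rintro (_ | _) (_ | _)
    · rfl
    · have h10 := congrArg (res K (show i₂ ''ᵁ ⊤ ⊓ i₁ ''ᵁ ⊤ ≤ i₁ ''ᵁ ⊤ ⊓ i₂ ''ᵁ ⊤ by rw [inf_comm])) h9.symm
      rw [res_res, res_res] at h10
      exact h10
    · exact h9
    · rfl)
  refine ⟨K, σ, u, v, ?_, ?_⟩
  · have h11 : res K (le_top : i₁ ''ᵁ ⊤ ≤ ⊤) σ = sK := hσ true
    rw [rsec, h11]
    exact hu
  · have h11 : res K (le_top : i₂ ''ᵁ ⊤ ≤ ⊤) σ = tK := hσ false
    rw [rsec, h11]
    exact hv

end glue

theorem isGen_pullTop_iff {X Y : Scheme.{u}} (f : X ⟶ Y) {M : Y.Modules} (hM : PicF.IsInvertible M)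
    (m : Γ(M, ⊤)) : IsGen (pullTop f m) ↔ ∀ x, f x ∈ nv M m := by
  have h1 := K265.YTriv.isIso_map_iff_isGen f (homOf m)
  have h2 := K265.YTriv.isIso_map_iff f hM (homOf m)
  rw [K265.YTriv.genLocus_eq_nv] at h2
  rw [sec_homOf, res_refl] at h1 h2
  rw [← h1, h2]
  constructor
  · intro h x
    have : x ∈ f ⁻¹ᵁ nv M m := by rw [h]; trivial
    exact this
  · intro h
    rw [eq_top_iff]
    exact fun x _ => h x

theorem isGen_pullTop_comp {X Y Z : Scheme.{u}} (h : X ⟶ Y) (i : Y ⟶ Z) [IsOpenImmersion i] {K : Z.Modules}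
    {M : Y.Modules} (e : K.restrict i ≅ M) {σ : Γ(K, ⊤)} {s : Γ(M, ⊤)} (he : e.hom.app ⊤ (rsec i σ) = s)
    (hs : IsGen (pullTop h s)) : IsGen (pullTop (h ≫ i) σ) := by
  refine (isGen_pullSec_comp_iff h i σ).mpr ?_
  let ψ : (Scheme.Modules.pullback i).obj K ≅ M := ((Scheme.Modules.restrictFunctorIsoPullback i).app K).symm ≪≫ e
  have h1 : ψ.hom.app ⊤ (pullTop i σ) = s := by
    have h2 := inv_app_of_hom_app _ (rsec_iso i σ)
    change e.hom.app ⊤ (((Scheme.Modules.restrictFunctorIsoPullback i).app K).inv.app ⊤ (pullTop i σ)) = s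
    rw [h2, he]
  have h3 := pullback_map_pullSec h ψ.hom (U := ⊤) (pullTop i σ)
  rw [h1] at h3
  have h4 : IsGen (((Scheme.Modules.pullback h).map ψ.hom).app (h ⁻¹ᵁ ⊤) (pullSec h (pullTop i σ))) := by
    rw [h3]; exact hs
  exact (isGen_app_iff _ _).mp h4

/-- Relative ampleness of a glued module. -/
theorem isRelAmple_glue {G A B X V W : Scheme.{u}} {i₁ : A ⟶ G} {i₂ : B ⟶ G} [IsOpenImmersion i₁]
    [IsOpenImmersion i₂] {π : G ⟶ X} {v : V ⟶ X} {w : W ⟶ X} [IsOpenImmersion v] [IsOpenImmersion w]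
    (hcov : ∀ x : X, x ∈ Set.range v ∨ x ∈ Set.range w) {g : A ⟶ V} {h : B ⟶ W} (h₁ : IsPullback i₁ g π v)
    (h₂ : IsPullback i₂ h π w) {K : G.Modules} {M : A.Modules} {N : B.Modules} (eA : K.restrict i₁ ≅ M)
    (eB : K.restrict i₂ ≅ N) (hM : RelAmple.IsRelAmple g M) (hN : RelAmple.IsRelAmple h N) :
    RelAmple.IsRelAmple π K := by
  refine Groth.Agent.Ega2.RelAmp.isRelAmple_of_forall_exists fun x => ?_
  rcases hcov x with ⟨x', rfl⟩ | ⟨x', rfl⟩
  · obtain ⟨_, ⟨O, hO, rfl⟩, hxO, -⟩ := V.isBasis_affineOpens.exists_subset_of_mem_open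
      (Set.mem_univ x') isOpen_univ
    refine ⟨v ''ᵁ O, hO.image_of_isOpenImmersion v, ⟨x', hxO, rfl⟩, ?_⟩
    rw [← IsOpenImmersion.image_preimage_eq_preimage_image_of_isPullback h₁.flip O]
    exact Groth.Agent.EGA2.K32.CoprodAmple.ampleOn_image i₁ eA ((Groth.Agent.Ega2.RelAmp.isRelAmple_iff.mp hM).2 ⟨O, hO⟩)
  · obtain ⟨_, ⟨O, hO, rfl⟩, hxO, -⟩ := W.isBasis_affineOpens.exists_subset_of_mem_open
      (Set.mem_univ x') isOpen_univ
    refine ⟨w ''ᵁ O, hO.image_of_isOpenImmersion w, ⟨x', hxO, rfl⟩, ?_⟩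
    rw [← IsOpenImmersion.image_preimage_eq_preimage_image_of_isPullback h₂.flip O]
    exact Groth.Agent.EGA2.K32.CoprodAmple.ampleOn_image i₂ eB ((Groth.Agent.Ega2.RelAmp.isRelAmple_iff.mp hN).2 ⟨O, hO⟩)

/-- **Gluing step.** A `Y`-blow-up over the open `V` extends to `X = V ∪ W`, `W` affine, when the module is
very ample over the overlap. -/
theorem exists_ext_glue {X V W Y YV X' : Scheme.{u}} (f : Y ⟶ X) [IsAffineHom f] (v : V ⟶ X) (w : W ⟶ X)
    [IsOpenImmersion v] [IsOpenImmersion w] (hcov : ∀ x : X, x ∈ Set.range v ∨ x ∈ Set.range w) [IsAffine W]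
    [CompactSpace ↥(pullback v w)] {cV : YV ⟶ Y} {fV : YV ⟶ V} (sqV : IsPullback cV fV f v) (f' : YV ⟶ X')
    (g' : X' ⟶ V) (M : X'.Modules) (t₀ : Γ(M, ⊤)) (hYB : IsYB fV f' g' M t₀)
    (hva : RelAmple.IsRelVeryAmplePn (pullback.snd g' (pullback.fst v w))
      ((Scheme.Modules.pullback (pullback.fst g' (pullback.fst v w))).obj M)) :
    ∃ (X₁ : Scheme.{u}) (f₁ : Y ⟶ X₁) (g₁ : X₁ ⟶ X) (r : X' ⟶ X₁) (L : X₁.Modules) (s : Γ(L, ⊤)),
      IsYB f f₁ g₁ L s ∧ IsPullback r g' g₁ v ∧ f' ≫ r = cV ≫ f₁ := by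
  have hdom := hYB.dom
  have hprop := hYB.proper
  have hE : IsPullback (pullback.fst v w) (pullback.snd v w) v w := IsPullback.of_hasPullback v w
  have hZ : IsPullback (pullback.fst g' (pullback.fst v w)) (pullback.snd g' (pullback.fst v w)) g'
    (pullback.fst v w) := IsPullback.of_hasPullback _ _
  have hfV : IsAffineHom fV := MorphismProperty.of_isPullback (P := @IsAffineHom) sqV ‹_›
  have hqf' : QuasiCompact f' := by
    have : QuasiCompact (f' ≫ g') := by rw [hYB.fac]; infer_instance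
    exact QuasiCompact.of_comp f' g'
  -- the part over `W`
  have sqW : IsPullback (pullback.fst f w) (pullback.snd f w) f w := IsPullback.of_hasPullback f w
  -- the part over the overlap
  let a := pullback.fst g' (pullback.fst v w)
  let z := pullback.snd g' (pullback.fst v w)
  have haz : a ≫ g' = z ≫ pullback.fst v w := hZ.w
  have ha : IsOpenImmersion a := inferInstance
  have hYE : IsPullback (pullback.fst f' a) (pullback.snd f' a) f' a := IsPullback.of_hasPullback f' a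
  let y₁ := pullback.fst f' a
  let fE := pullback.snd f' a
  have hyE : y₁ ≫ f' = fE ≫ a := hYE.w
  have hEdom : IsSchemeTheoreticallyDominant fE := IsSchemeTheoreticallyDominant.of_isPullback hYE
  have sqE : IsPullback y₁ (fE ≫ z) fV (pullback.fst v w) := by
    have := hYE.paste_vert hZ
    rwa [hYB.fac] at this
  let u : pullback f' a ⟶ pullback f w := pullback.lift (y₁ ≫ cV) ((fE ≫ z) ≫ pullback.snd v w) (by
    rw [Category.assoc, sqV.w, Category.assoc, ← hE.w, ← Category.assoc, sqE.w, Category.assoc])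
  have hu1 : u ≫ pullback.fst f w = y₁ ≫ cV := pullback.lift_fst _ _ _
  have hu2 : u ≫ pullback.snd f w = (fE ≫ z) ≫ pullback.snd v w := pullback.lift_snd _ _ _
  have squ : IsPullback u (fE ≫ z) (pullback.snd f w) (pullback.snd v w) := by
    have h1 := sqE.paste_horiz sqV
    refine IsPullback.of_right ?_ hu2 sqW
    rw [hu1, ← hE.w]
    exact h1
  have hgenE : IsGen (pullTop fE (pullTop a t₀)) := by
    refine (isGen_pullSec_comp_iff fE a t₀).mp ?_
    refine (isGen_pullSec_congr hyE t₀).mp ?_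
    exact (isGen_pullSec_comp_iff y₁ f' t₀).mpr (hYB.gen.pullTop y₁)
  obtain ⟨XW, fW, gW, ρ, LW, sW, hYBW, hρ, hρu, e, he⟩ := exists_ext_affine (pullback.snd f w) (pullback.snd v w)
    squ fE z rfl _ hva (pullTop a t₀) hgenE
  have hρo : IsOpenImmersion ρ := MorphismProperty.of_isPullback (P := @IsOpenImmersion) hρ.flip inferInstance
  have hpropW := hYBW.proper
  have hdomW := hYBW.dom
  -- gluing the schemes
  obtain ⟨G, π, i₁, i₂, hi₁, hi₂, sq₁, sq₂, hw, hcovG⟩ := Groth.Agent.FlatA.GlueTwo.exists_glued hE hZ hρ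
  change a ≫ i₁ = ρ ≫ i₂ at hw
  have hπ : IsProper π := Groth.Agent.FlatA.GlueTwo.of_isPullback_pair @IsProper hcov sq₁ sq₂ hprop hpropW
  -- the morphism from `Y`
  have hcV : IsOpenImmersion cV := MorphismProperty.of_isPullback (P := @IsOpenImmersion) sqV.flip ‹_›
  have hcovY : ∀ y : Y, y ∈ Set.range cV ∨ y ∈ Set.range (pullback.fst f w) := by
    intro y
    rcases hcov (f y) with ⟨x, hx⟩ | ⟨x, hx⟩
    · obtain ⟨y', hy', -⟩ := Scheme.exists_preimage_of_isPullback sqV y x hx.symm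
      exact Or.inl ⟨y', hy'⟩
    · obtain ⟨y', hy', -⟩ := Scheme.exists_preimage_of_isPullback sqW y x hx.symm
      exact Or.inr ⟨y', hy'⟩
  obtain ⟨f₁, hf₁, hf₂⟩ := exists_glue_two cV (pullback.fst f w) hcovY (f' ≫ i₁) (fW ≫ i₂) (by
    intro T α β hαβ
    -- `T` maps to the overlap
    let τ : T ⟶ pullback v w := pullback.lift (α ≫ fV) (β ≫ pullback.snd f w) (by
      rw [Category.assoc, ← sqV.w, ← Category.assoc, hαβ, Category.assoc, sqW.w, Category.assoc])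
    have hτ1 : τ ≫ pullback.fst v w = α ≫ fV := pullback.lift_fst _ _ _
    have hτ2 : τ ≫ pullback.snd v w = β ≫ pullback.snd f w := pullback.lift_snd _ _ _
    let γ : T ⟶ pullback f' a := sqE.lift α τ hτ1.symm
    have hγ1 : γ ≫ y₁ = α := sqE.lift_fst _ _ _
    have hγ2 : γ ≫ fE ≫ z = τ := sqE.lift_snd _ _ _
    have hγu : γ ≫ u = β := by
      apply pullback.hom_ext
      · rw [Category.assoc, hu1, ← Category.assoc, hγ1, hαβ]
      · rw [Category.assoc, hu2, ← Category.assoc, hγ2, hτ2]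
    rw [← hγ1, ← hγu, Category.assoc, Category.assoc, ← Category.assoc y₁, hyE, Category.assoc, hw,
      ← Category.assoc fE, hρu, Category.assoc])
  have hf₁π : f₁ ≫ π = f := by
    refine hom_ext_two cV (pullback.fst f w) hcovY ?_ ?_
    · rw [← Category.assoc, hf₁, Category.assoc, sq₁.w, ← Category.assoc, hYB.fac, sqV.w]
    · rw [← Category.assoc, hf₂, Category.assoc, sq₂.w, ← Category.assoc, hYBW.fac, sqW.w]
  have hqc : QuasiCompact f₁ := by
    have : QuasiCompact (f₁ ≫ π) := by rw [hf₁π]; infer_instance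
    exact QuasiCompact.of_comp f₁ π
  have sqf₁ : IsPullback cV f' f₁ i₁ := by
    refine IsPullback.of_bot ?_ hf₁ sq₁
    rw [hYB.fac, hf₁π]
    exact sqV
  have sqf₂ : IsPullback (pullback.fst f w) fW f₁ i₂ := by
    refine IsPullback.of_bot ?_ hf₂ sq₂
    rw [hYBW.fac, hf₁π]
    exact sqW
  have hdom₁ : IsSchemeTheoreticallyDominant f₁ := by
    refine dom_of_cover f₁ (ι := Bool) (U := fun b => bif b then YV else pullback f w)
      (V := fun b => bif b then X' else XW) (fun b => match b with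
        | true => f'
        | false => fW) (fun b => match b with
        | true => cV
        | false => pullback.fst f w) (fun b => match b with
        | true => i₁
        | false => i₂) (fun b => match b with
        | true => hi₁
        | false => hi₂) (fun b => match b with
        | true => sqf₁.flip
        | false => sqf₂.flip) (fun x => ?_) (fun b => match b with
        | true => hdom
        | false => hdomW)
    rcases hcovG x with h | h
    · exact ⟨true, h⟩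
    · exact ⟨false, h⟩
  -- gluing the modules
  have hov : ∀ x y, i₁ x = i₂ y → ∃ z', a z' = x := by
    intro x y hxy
    have h1 : v (g' x) = w (gW y) := by
      have h2 : v (g' x) = π (i₁ x) := congr($(sq₁.w.symm) x)
      have h3 : w (gW y) = π (i₂ y) := congr($(sq₂.w.symm) y)
      rw [h2, h3, hxy]
    obtain ⟨ε, hε1, -⟩ := Scheme.exists_preimage_of_isPullback hE (g' x) (gW y) h1
    obtain ⟨ζ, hζ, -⟩ := Scheme.exists_preimage_of_isPullback hZ x ε hε1.symm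
    exact ⟨ζ, hζ⟩
  obtain ⟨K, σ, eA, eB, hA, hB⟩ := exists_glue_mod i₁ i₂ hcovG a ρ hw hov M LW e t₀ sW he
  have hample : RelAmple.IsRelAmple π K := isRelAmple_glue hcov sq₁ sq₂ eA eB hYB.ample hYBW.ample
  have hKinv : PicF.IsInvertible K := Groth.Agent.CalgB.AmpleRel.isInvertible_of_isRelAmple hample
  refine ⟨G, f₁, π, i₁, K, σ, ⟨hdom₁, hπ, hf₁π, hample, ?_⟩, sq₁, hf₁.symm⟩
  have g1 : IsGen (pullTop (cV ≫ f₁) σ) := by
    rw [hf₁]
    exact isGen_pullTop_comp f' i₁ eA hA hYB.gen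
  have g2 : IsGen (pullTop (pullback.fst f w ≫ f₁) σ) := by
    rw [hf₂]
    exact isGen_pullTop_comp fW i₂ eB hB hYBW.gen
  rw [isGen_pullTop_iff _ hKinv] at g1 g2 ⊢
  intro y
  rcases hcovY y with ⟨y', rfl⟩ | ⟨y', rfl⟩
  · exact g1 y'
  · exact g2 y'

end K361.YGlue
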